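import Cfsg.Prelude.Def_Sz
import Cfsg.Agent.Lib.Suzuki.Simple

/-!
The two models of the Suzuki group agree: `Cfsg.Lie.Sz F (2^(m+1))` (defined by `g* = g^θ` in
`Sp₄`) is the image in `GL₄` of `Cfsg.Sz F m` (the ovoid stabiliser in `SL₄`).
-/

set_option autoImplicit false

namespace Cfsg.Agent.RankOne.SzBridge

open Matrix Cfsg.Agent.Suzuki
open scoped Pointwise

variable {F : Type*} [Field F] {m : ℕ}

/-- The minor `v_k w_l - v_l w_k` for the pair `p`. -/
def minor (v w : Fin 4 → F) (p : Fin 4) : F :=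
  v (Cfsg.Lie.pairOf p).1 * w (Cfsg.Lie.pairOf p).2 -
    v (Cfsg.Lie.pairOf p).2 * w (Cfsg.Lie.pairOf p).1

/-- `v` is an absolute point of the polarity. -/
def Absolute (m : ℕ) (v : Fin 4 → F) : Prop :=
  ∃ (w : Fin 4 → F) (c : F), c ≠ 0 ∧ Cfsg.Lie.altForm4 v w = 0 ∧ ∀ p, minor v w p = c * sig m (v p)

/-- The defining conditions of `Cfsg.Lie.Sz` for a matrix. -/
def Good (m : ℕ) (A : Matrix (Fin 4) (Fin 4) F) : Prop :=
  (∀ u v : Fin 4 → F, Cfsg.Lie.altForm4 (A *ᵥ u) (A *ᵥ v) = Cfsg.Lie.altForm4 u v) ∧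
    Cfsg.Lie.star4 A = A.map (fun x => x ^ (2 ^ (m + 1)))

theorem absolute_smul {v : Fin 4 → F} {μ : F} (hμ : μ ≠ 0) (h : Absolute m v) :
    Absolute m (μ • v) := by
  obtain ⟨w, c, hc, hB, hp⟩ := h
  refine ⟨w, μ * c / sig m μ, div_ne_zero (mul_ne_zero hμ hc) (sig_ne_zero hμ), ?_, fun p => ?_⟩
  · simp only [Cfsg.Lie.altForm4, Pi.smul_apply, smul_eq_mul] at hB ⊢
    linear_combination μ * hB
  · have h := hp p
    have hs : sig m μ ≠ 0 := sig_ne_zero hμ
    simp only [minor, Pi.smul_apply, smul_eq_mul, sig_mul] at h ⊢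
    field_simp
    linear_combination h

section
variable [Fintype F] (hF : Fintype.card F = 2 ^ (2 * m + 1))
include hF

theorem form_transpose {A : Matrix (Fin 4) (Fin 4) F}
    (h : ∀ u v : Fin 4 → F, Cfsg.Lie.altForm4 (A *ᵥ u) (A *ᵥ v) = Cfsg.Lie.altForm4 u v) :
    A.transpose * Cfsg.suzukiForm F * A = Cfsg.suzukiForm F := by
  ext i j
  have h1 := h (Pi.single i 1) (Pi.single j 1)
  fin_cases i <;> fin_cases j <;>
    simp [Cfsg.Lie.altForm4, Matrix.mul_apply, Fin.sum_univ_four, Cfsg.suzukiForm, Matrix.mulVec,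
      dotProduct, Pi.single_apply] at h1 ⊢ <;>
    linear_combination h1

omit hF in
theorem form_mul_self : Cfsg.suzukiForm F * Cfsg.suzukiForm F = 1 := by
  ext i j
  fin_cases i <;> fin_cases j <;> simp [Cfsg.suzukiForm, Matrix.mul_apply, Fin.sum_univ_four]

theorem row_form {A : Matrix (Fin 4) (Fin 4) F}
    (h : ∀ u v : Fin 4 → F, Cfsg.Lie.altForm4 (A *ᵥ u) (A *ᵥ v) = Cfsg.Lie.altForm4 u v)
    (k l : Fin 4) :
    A k 0 * A l 3 + A k 1 * A l 2 + A k 2 * A l 1 + A k 3 * A l 0 = Cfsg.suzukiForm F k l := by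
  have h1 := form_transpose hF h
  have h2 : (Cfsg.suzukiForm F * A.transpose * Cfsg.suzukiForm F) * A = 1 := by
    rw [Matrix.mul_assoc, Matrix.mul_assoc, ← Matrix.mul_assoc A.transpose, h1, form_mul_self]
  have h3 := mul_eq_one_comm.mp h2
  have h4 : A * Cfsg.suzukiForm F * A.transpose = Cfsg.suzukiForm F := by
    calc A * Cfsg.suzukiForm F * A.transpose
        = (A * (Cfsg.suzukiForm F * A.transpose * Cfsg.suzukiForm F)) * Cfsg.suzukiForm F := by
          simp only [Matrix.mul_assoc, form_mul_self, Matrix.mul_one]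
      _ = _ := by rw [h3, Matrix.one_mul]
  rw [← h4]
  simp [Matrix.mul_apply, Fin.sum_univ_four, Cfsg.suzukiForm]
  ring

omit hF in
theorem minor_expand {k l : Fin 4 → F} (v w : Fin 4 → F) (h2 : (2 : F) = 0)
    (hB : v 0 * w 3 + v 1 * w 2 + v 2 * w 1 + v 3 * w 0 = 0)
    (hR : k 0 * l 3 + k 1 * l 2 + k 2 * l 1 + k 3 * l 0 = 0) :
    (k 0 * v 0 + k 1 * v 1 + k 2 * v 2 + k 3 * v 3) *
        (l 0 * w 0 + l 1 * w 1 + l 2 * w 2 + l 3 * w 3) -
      (l 0 * v 0 + l 1 * v 1 + l 2 * v 2 + l 3 * v 3) *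
        (k 0 * w 0 + k 1 * w 1 + k 2 * w 2 + k 3 * w 3) =
      (k 0 * l 1 - l 0 * k 1) * (v 0 * w 1 - v 1 * w 0) +
      (k 0 * l 2 - l 0 * k 2) * (v 0 * w 2 - v 2 * w 0) +
      (k 1 * l 3 - l 1 * k 3) * (v 1 * w 3 - v 3 * w 1) +
      (k 2 * l 3 - l 2 * k 3) * (v 2 * w 3 - v 3 * w 2) := by
  linear_combination (v 0 * w 3 - v 3 * w 0) * hR + (k 1 * l 2 - l 1 * k 2) * hB -
    ((l 0 * k 3 + k 2 * l 1) * (v 0 * w 3 - v 3 * w 0) +
      (k 1 * l 2 - l 1 * k 2) * (v 2 * w 1 + v 0 * w 3)) * h2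

theorem sig_sum_four (a b c d : F) : sig m (a + b + c + d) = sig m a + sig m b + sig m c + sig m d := by
  rw [sig_add hF, sig_add hF, sig_add hF]

theorem absolute_map {A : Matrix (Fin 4) (Fin 4) F} (hA : Good m A) {v : Fin 4 → F}
    (h : Absolute m v) : Absolute m (A *ᵥ v) := by
  obtain ⟨w, c, hc, hB, hp⟩ := h
  refine ⟨A *ᵥ w, c, hc, by rw [hA.1, hB], fun p => ?_⟩
  have hstar : ∀ r, A (Cfsg.Lie.pairOf p).1 (Cfsg.Lie.pairOf r).1 *
      A (Cfsg.Lie.pairOf p).2 (Cfsg.Lie.pairOf r).2 -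
      A (Cfsg.Lie.pairOf p).2 (Cfsg.Lie.pairOf r).1 *
      A (Cfsg.Lie.pairOf p).1 (Cfsg.Lie.pairOf r).2 = sig m (A p r) := by
    intro r
    have := congrFun (congrFun hA.2 p) r
    simpa [Cfsg.Lie.star4, sig] using this
  have hR := row_form hF hA.1 (Cfsg.Lie.pairOf p).1 (Cfsg.Lie.pairOf p).2
  have hJ : Cfsg.suzukiForm F (Cfsg.Lie.pairOf p).1 (Cfsg.Lie.pairOf p).2 = 0 := by
    fin_cases p <;> simp [Cfsg.Lie.pairOf, Cfsg.suzukiForm]
  rw [hJ] at hR
  have hmv : ∀ (u : Fin 4 → F) i, (A *ᵥ u) i = A i 0 * u 0 + A i 1 * u 1 + A i 2 * u 2 + A i 3 * u 3 :=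
    fun u i => by simp [Matrix.mulVec, dotProduct, Fin.sum_univ_four]
  have h0 := hp 0
  have h1 := hp 1
  have h2 := hp 2
  have h3 := hp 3
  have s0 := hstar 0
  have s1 := hstar 1
  have s2 := hstar 2
  have s3 := hstar 3
  simp only [minor, Cfsg.Lie.pairOf, Matrix.cons_val] at h0 h1 h2 h3 s0 s1 s2 s3
  have key := minor_expand (k := A (Cfsg.Lie.pairOf p).1) (l := A (Cfsg.Lie.pairOf p).2) v w
    (two_eq_zero hF) hB hR
  simp only [Cfsg.Lie.pairOf] at key
  show minor (A *ᵥ v) (A *ᵥ w) p = _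
  rw [minor, hmv, hmv, hmv, hmv, hmv v p, sig_sum_four hF, sig_mul, sig_mul, sig_mul, sig_mul]
  simp only [Cfsg.Lie.pairOf]
  rw [key, s0, s1, s2, s3, h0, h1, h2, h3]
  ring

theorem absolute_inf : Absolute m (![1, 0, 0, 0] : Fin 4 → F) := by
  refine ⟨![0, 1, 0, 0], 1, one_ne_zero, by simp [Cfsg.Lie.altForm4], fun p => ?_⟩
  fin_cases p <;> simp [minor, Cfsg.Lie.pairOf, sig_zero, sig_one]

theorem absolute_zero : Absolute m (pv m (0 : F) 0) := by
  refine ⟨![0, 0, 1, 0], 1, one_ne_zero, by simp [Cfsg.Lie.altForm4, pv, fz, sig_zero], fun p => ?_⟩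
  fin_cases p <;> simp [minor, Cfsg.Lie.pairOf, pv, fz, sig_zero, sig_one]
  exact (eq_of_add_eq_zero hF (by rw [add_neg_cancel] : (1 : F) + -1 = 0)).symm

theorem absolute_eq {v : Fin 4 → F} (hv : v ≠ 0) (h : Absolute m v) :
    Projectivization.mk F v hv ∈ Cfsg.suzukiOvoid F m := by
  have h2 := two_eq_zero hF
  by_cases h3 : v 3 = 0
  · obtain ⟨w, c, hc, hB, hp⟩ := h
    have e2 := hp 2
    have e3 := hp 3
    have e1 := hp 1
    simp [minor, Cfsg.Lie.pairOf, h3, sig_zero, Cfsg.Lie.altForm4] at e1 e2 e3 hB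
    have hx : v 2 = 0 := by
      by_contra hx
      have hw : w 3 = 0 := e3.resolve_left hx
      rw [hw, mul_zero] at e2
      rcases mul_eq_zero.1 e2.symm with h | h
      · exact hc h
      · exact hx (sig_eq_zero.1 h)
    have hy : v 1 = 0 := by
      by_contra hy
      have hw : w 3 = 0 := by
        rw [hx, sig_zero, mul_zero] at e2
        exact (mul_eq_zero.1 e2).resolve_left hy
      rw [hw, hx] at hB
      simp at hB
      rw [hB.resolve_left hy, hx] at e1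
      simp at e1
      rcases e1 with h | h
      · exact hc h
      · exact hy (sig_eq_zero.1 h)
    have h0 : v 0 ≠ 0 := fun h0 => hv (funext fun i => by fin_cases i <;> assumption)
    refine mem_ovoid.2 (Or.inl ((Projectivization.mk_eq_mk_iff' F _ _ _ _).2 ⟨v 0, ?_⟩))
    funext i; fin_cases i <;> simp [h3, hx, hy]
  · obtain ⟨w, c, hc, hB, hp⟩ := absolute_smul (μ := (v 3)⁻¹) (inv_ne_zero h3) h
    set u := (v 3)⁻¹ • v with hu
    have hu3 : u 3 = 1 := by rw [hu, Pi.smul_apply, smul_eq_mul, inv_mul_cancel₀ h3]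
    have e1 := hp 1
    have e2 := hp 2
    have e3 := hp 3
    simp [minor, Cfsg.Lie.pairOf, hu3, sig_one, Cfsg.Lie.altForm4] at e1 e2 e3 hB
    have hw2 : w 2 = u 2 * w 3 + c := by linear_combination -e3 - c * h2
    have hw1 : w 1 = u 1 * w 3 + c * sig m (u 2) := by
      linear_combination -e2 - (c * sig m (u 2)) * h2
    have hw0 : w 0 = u 0 * w 3 + c * (u 1 + u 2 * sig m (u 2)) := by
      linear_combination hB - u 1 * hw2 - u 2 * hw1 -
        (u 0 * w 3 + u 1 * u 2 * w 3 + c * u 1 + c * u 2 * sig m (u 2)) * h2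
    have hz : u 0 = fz m (u 2) (u 1) := by
      apply mul_left_cancel₀ hc
      rw [hw2, hw0] at e1
      rw [fz]
      linear_combination e1
    refine mem_ovoid.2 (Or.inr ⟨u 2, u 1, ?_⟩)
    refine (Projectivization.mk_eq_mk_iff' F _ _ _ _).2 ⟨v 3, ?_⟩
    have hvu : ∀ i, v i = v 3 * u i := fun i => by
      rw [hu, Pi.smul_apply, smul_eq_mul, ← mul_assoc, mul_inv_cancel₀ h3, one_mul]
    funext i
    rw [Pi.smul_apply, smul_eq_mul, hvu i]
    fin_cases i <;> simp [pv, hz, hu3]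

theorem good_umat (a b : F) : Good m (umat m a b) := by
  have h2 := two_eq_zero hF
  refine ⟨fun u v => ?_, ?_⟩
  · simp [Cfsg.Lie.altForm4, umat, fz, Matrix.mulVec, dotProduct, Fin.sum_univ_four]
    linear_combination (2 * a * b * u 3 * v 3 + sig m a * a ^ 2 * u 3 * v 3 + sig m b * u 3 * v 3 +
      b * u 2 * v 3 + b * u 3 * v 2 + a * sig m a * (u 2 * v 3 + u 3 * v 2) +
      a * (u 1 * v 3 + u 3 * v 1) + sig m a * u 2 * v 2) * h2
  · have hs : ∀ x : F, x ^ (2 ^ (m + 1)) = sig m x := fun x => rfl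
    ext p r
    fin_cases p <;> fin_cases r <;>
      simp [Cfsg.Lie.star4, Cfsg.Lie.pairOf, umat, fz, hs, sig_add hF, sig_mul, sig_pow, sig_sig hF,
        sig_zero, sig_one]
    all_goals (rw [← sub_eq_zero]; ring_nf; (try simp [h2]))

theorem good_tel (k : Fˣ) : Good m (tel m k : Matrix (Fin 4) (Fin 4) F) := by
  have hk := k.ne_zero
  have hr : rho m (k : F) ≠ 0 := rho_ne_zero hk
  have hs : ∀ x : F, x ^ (2 ^ (m + 1)) = sig m x := fun x => rfl
  have hsr : sig m (rho m (k : F)) = (k : F) := by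
    refine sq_inj hF ?_
    rw [← sig_pow, pow_two, rho_sq, sig_sig hF]
  refine ⟨fun u v => ?_, ?_⟩
  · simp [Cfsg.Lie.altForm4, tel, Matrix.mulVec, dotProduct, Fin.sum_univ_four]
    field_simp
  · ext p r
    fin_cases p <;> fin_cases r <;>
      simp [Cfsg.Lie.star4, Cfsg.Lie.pairOf, tel, hs, sig_mul, sig_inv, sig_zero, hsr]
    all_goals (try field_simp)
    all_goals (try rw [← rho_sq])
    all_goals (try ring_nf)
    all_goals (try field_simp)

theorem good_wel : Good m (wel F : Matrix (Fin 4) (Fin 4) F) := by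
  have h2 := two_eq_zero hF
  refine ⟨fun u v => ?_, ?_⟩
  · simp [Cfsg.Lie.altForm4, wel, Matrix.mulVec, dotProduct, Fin.sum_univ_four]
    ring
  · ext p r
    fin_cases p <;> fin_cases r <;> simp [Cfsg.Lie.star4, Cfsg.Lie.pairOf, wel]
    all_goals (try linear_combination -h2)

omit hF in
theorem good_gen {A : Matrix.SpecialLinearGroup (Fin 4) F} (hA : Good m A.1) :
    Matrix.SpecialLinearGroup.toGL A ∈ Cfsg.Lie.Sz F (2 ^ (m + 1)) :=
  Subgroup.subset_closure ⟨fun u v => hA.1 u v, hA.2⟩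

theorem absolute_ovoid {p : Projectivization F (Fin 4 → F)} (hp : p ∈ Cfsg.suzukiOvoid F m) :
    ∃ (v : Fin 4 → F) (hv : v ≠ 0), p = Projectivization.mk F v hv ∧ Absolute m v := by
  rcases mem_ovoid.1 hp with rfl | ⟨x, y, rfl⟩
  · exact ⟨![1, 0, 0, 0], by simp, rfl, absolute_inf hF⟩
  · refine ⟨pv m x y, pv_ne_zero x y, rfl, ?_⟩
    have h := absolute_map hF (good_umat hF x y) (absolute_zero hF)
    have e : umat m x y *ᵥ pv m 0 0 = pv m x y := by
      funext i
      fin_cases i <;> simp [umat, pv, fz, sig_zero, Matrix.mulVec, dotProduct, Fin.sum_univ_four]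
    rwa [e] at h

/-- `Cfsg.Sz` as matrices in `GL₄`. -/
noncomputable def toGL : Cfsg.Sz F m →* GL (Fin 4) F :=
  Matrix.SpecialLinearGroup.toGL.comp (Cfsg.Sz F m).subtype

theorem range_toGL (hm : 1 ≤ m) : (toGL (F := F) (m := m)).range = Cfsg.Lie.Sz F (2 ^ (m + 1)) := by
  apply le_antisymm
  · rintro _ ⟨g, rfl⟩
    have key : ∀ A : Cfsg.Sz F m, Good m A.1.1 → toGL A ∈ Cfsg.Lie.Sz F (2 ^ (m + 1)) :=
      fun A h => good_gen h
    rcases decompose hF hm g with ⟨a, b, k, rfl⟩ | ⟨a, b, c, d, k, rfl⟩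
    · rw [map_mul]
      exact mul_mem (key _ (good_umat hF a b)) (key _ (good_tel hF k))
    · rw [map_mul, map_mul, map_mul]
      exact mul_mem (mul_mem (key _ (good_umat hF a b)) (key _ (good_wel hF)))
        (mul_mem (key _ (good_umat hF c d)) (key _ (good_tel hF k)))
  · refine (Subgroup.closure_le _).2 ?_
    rintro g ⟨hg, hstar⟩
    have hgood : Good m (g : Matrix (Fin 4) (Fin 4) F) := ⟨fun u v => hg u v, hstar⟩
    have hdet : (g : Matrix (Fin 4) (Fin 4) F).det = 1 := by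
      have h := congrArg Matrix.det (form_transpose hF hgood.1)
      rw [Matrix.det_mul, Matrix.det_mul, Matrix.det_transpose] at h
      have hJ : (Cfsg.suzukiForm F).det ≠ 0 := fun h0 => by
        have := congrArg Matrix.det (form_mul_self (F := F))
        rw [Matrix.det_mul, h0, zero_mul, Matrix.det_one] at this
        exact zero_ne_one this
      have h1 : (g : Matrix (Fin 4) (Fin 4) F).det ^ 2 = 1 ^ 2 := by
        apply mul_right_cancel₀ hJ
        linear_combination h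
      exact sq_inj hF h1
    let A : Matrix.SpecialLinearGroup (Fin 4) F := ⟨(g : Matrix (Fin 4) (Fin 4) F), hdet⟩
    have hA : A ∈ Cfsg.Sz F m := by
      refine mem_Sz_of_mapsTo fun p hp => ?_
      obtain ⟨v, hv, rfl, hab⟩ := absolute_ovoid hF hp
      rw [Projectivization.smul_mk]
      exact absolute_eq hF _ (absolute_map hF hgood hab)
    exact ⟨⟨A, hA⟩, Units.ext rfl⟩

omit hF in
theorem toGL_injective : Function.Injective (toGL (F := F) (m := m)) := by
  intro g h e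
  exact Subtype.ext (Subtype.ext (congrArg (fun x : GL (Fin 4) F => (x : Matrix (Fin 4) (Fin 4) F)) e))

/-- The two models of the Suzuki group are isomorphic. -/
noncomputable def szEquiv (hm : 1 ≤ m) : Cfsg.Sz F m ≃* Cfsg.Lie.Sz F (2 ^ (m + 1)) :=
  (MonoidHom.ofInjective toGL_injective).trans (MulEquiv.subgroupCongr (range_toGL hF hm))

end

end Cfsg.Agent.RankOne.SzBridge
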