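import Mathlib

/-!
Elementary facts about involutions acting on groups of odd order: unique square roots, dihedral
conjugation, the decomposition `x = c * i`, and generation by the centralisers in a four-group.
-/

set_option autoImplicit false

namespace Cfsg.Agent.RankOne

variable {G : Type*} [Group G]

lemma inv_eq_self {t : G} (ht : t * t = 1) : t⁻¹ = t := inv_eq_of_mul_eq_one_left ht

lemma odd_orderOf_of_mem [Finite G] {H : Subgroup G} (hH : Odd (Nat.card H)) {x : G} (hx : x ∈ H) :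
    Odd (orderOf x) :=
  hH.of_dvd_nat (Subgroup.orderOf_dvd_natCard H hx)

/-- The square root of an element of odd order, inside the cyclic group it generates. -/
noncomputable def sqrt (x : G) : G := x ^ ((orderOf x + 1) / 2)

lemma sqrt_mul_self {x : G} (hx : Odd (orderOf x)) : sqrt x * sqrt x = x := by
  obtain ⟨m, hm⟩ := hx
  have h : (orderOf x + 1) / 2 = m + 1 := by omega
  rw [sqrt, h, ← pow_add, show m + 1 + (m + 1) = orderOf x + 1 by omega, pow_succ,
    pow_orderOf_eq_one, one_mul]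

lemma sqrt_mem_zpowers (x : G) : sqrt x ∈ Subgroup.zpowers x :=
  Subgroup.npow_mem_zpowers x _

lemma sqrt_mem {H : Subgroup G} {x : G} (hx : x ∈ H) : sqrt x ∈ H := H.pow_mem hx _

lemma sqrt_commute {x g : G} (h : Commute g x) : Commute g (sqrt x) := h.pow_right _

lemma eq_of_mul_self_eq {x y : G} (hx : Odd (orderOf x)) (hy : Odd (orderOf y))
    (h : x * x = y * y) : x = y := by
  have hx' : sqrt (x * x) = x := by
    have : orderOf (x * x) = orderOf x := by
      rw [← pow_two]; exact Nat.Coprime.orderOf_pow (Nat.Coprime.symm hx.coprime_two_left)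
    obtain ⟨m, hm⟩ := hx
    rw [sqrt, this, ← pow_two, ← pow_mul, show 2 * ((orderOf x + 1) / 2) = orderOf x + 1 by omega,
      pow_succ, pow_orderOf_eq_one, one_mul]
  have hy' : sqrt (y * y) = y := by
    have : orderOf (y * y) = orderOf y := by
      rw [← pow_two]; exact Nat.Coprime.orderOf_pow (Nat.Coprime.symm hy.coprime_two_left)
    obtain ⟨m, hm⟩ := hy
    rw [sqrt, this, ← pow_two, ← pow_mul, show 2 * ((orderOf y + 1) / 2) = orderOf y + 1 by omega,
      pow_succ, pow_orderOf_eq_one, one_mul]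
  rw [← hx', ← hy', h]

lemma eq_one_of_mul_self {x : G} (hx : Odd (orderOf x)) (h : x * x = 1) : x = 1 :=
  eq_of_mul_self_eq hx (by simp) (by simpa using h)

lemma conj_sqrt {g x y : G} (hx : Odd (orderOf x)) (hy : Odd (orderOf y))
    (h : g * x * g⁻¹ = y) : g * sqrt x * g⁻¹ = sqrt y := by
  have ho : orderOf y = orderOf x := by
    rw [← h]; exact (MulEquiv.orderOf_eq (MulAut.conj g) x)
  subst h
  rw [sqrt, sqrt, ho, conj_pow]

lemma sqrt_inv {x : G} : sqrt x⁻¹ = (sqrt x)⁻¹ := by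
  rw [sqrt, sqrt, orderOf_inv, inv_pow]

/-- In a group of odd order no non-identity element is conjugate to its inverse. -/
lemma eq_one_of_conj_eq_inv {g w : G} (hg : Odd (orderOf g)) (hw : Odd (orderOf w))
    (h : g * w * g⁻¹ = w⁻¹) : w = 1 := by
  have h1 : g * w = w⁻¹ * g := by rw [← h]; group
  have h2 : g * w⁻¹ = w * g := by
    calc g * w⁻¹ = w * (w⁻¹ * g) * w⁻¹ := by group
      _ = w * (g * w) * w⁻¹ := by rw [h1]
      _ = _ := by group
  have h3 : Commute w (g * g) := by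
    show w * (g * g) = g * g * w
    rw [mul_assoc g g w, h1, ← mul_assoc g, h2, mul_assoc]
  have h4 : Commute w g := by
    have := sqrt_commute h3
    have e : sqrt (g * g) = g := by
      refine eq_of_mul_self_eq ?_ hg ?_
      · exact hg.of_dvd_nat ((orderOf_dvd_of_mem_zpowers
          ((Subgroup.zpowers g).pow_mem ((Subgroup.zpowers g).mul_mem
            (Subgroup.mem_zpowers g) (Subgroup.mem_zpowers g)) _)))
      · exact sqrt_mul_self (hg.of_dvd_nat ((orderOf_dvd_of_mem_zpowers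
          ((Subgroup.zpowers g).mul_mem (Subgroup.mem_zpowers g) (Subgroup.mem_zpowers g)))))
    rwa [e] at this
  have : w * w = 1 := by
    have e : g * w * g⁻¹ = w := by rw [← h4.eq]; group
    rw [e] at h
    nth_rewrite 2 [h]
    group
  exact eq_one_of_mul_self hw this

/-- Two involutions whose product has odd order are conjugate by a power of the product. -/
lemma dihedral_conj {u v : G} (hu : u * u = 1) (hv : v * v = 1) (h : Odd (orderOf (u * v))) :
    ∃ w ∈ Subgroup.zpowers (u * v), w * u * w⁻¹ = v := by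
  refine ⟨(sqrt (u * v))⁻¹, inv_mem (sqrt_mem_zpowers _), ?_⟩
  set r := sqrt (u * v) with hr
  have hrr : r * r = u * v := sqrt_mul_self h
  have hinv : u * r * u⁻¹ = r⁻¹ := by
    have hx : u * (u * v) * u⁻¹ = (u * v)⁻¹ := by
      rw [mul_inv_rev, inv_eq_self hu, inv_eq_self hv, ← mul_assoc u u, hu, one_mul]
    rw [hr, ← sqrt_inv]
    exact conj_sqrt h (by rwa [orderOf_inv]) hx
  have h2 : u * r = r⁻¹ * u := by rw [← hinv]; group
  rw [inv_inv, mul_assoc, h2, ← mul_assoc]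
  calc r⁻¹ * r⁻¹ * u = (r * r)⁻¹ * u := by group
    _ = v := by rw [hrr, mul_inv_rev, inv_eq_self hu, inv_eq_self hv, mul_assoc, hu, mul_one]

/-- Decomposition of a subgroup of odd order normalised by an involution. -/
lemma odd_decomp {t : G} (ht : t * t = 1) {X : Subgroup G} [Finite G] (hX : Odd (Nat.card X))
    (hn : ∀ x ∈ X, t * x * t⁻¹ ∈ X) {x : G} (hx : x ∈ X) :
    ∃ c i : G, c ∈ X ∧ t * c = c * t ∧ i ∈ X ∧ t * i * t⁻¹ = i⁻¹ ∧ x = c * i ∧
      i * i = (t * x * t⁻¹)⁻¹ * x := by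
  have ht' := inv_eq_self ht
  set z := (t * x * t⁻¹)⁻¹ * x with hz
  have hzX : z ∈ X := mul_mem (inv_mem (hn x hx)) hx
  have hzo := odd_orderOf_of_mem hX hzX
  have htz : t * z * t⁻¹ = z⁻¹ := by
    calc t * ((t * x * t⁻¹)⁻¹ * x) * t⁻¹
        = (t * t) * x⁻¹ * (t⁻¹ * x * t⁻¹) := by group
      _ = x⁻¹ * (t * x * t⁻¹) := by rw [ht, ht', one_mul]
      _ = _ := by rw [hz]; group
  set i := sqrt z with hi
  have hii : i * i = z := sqrt_mul_self hzo
  have hti : t * i * t⁻¹ = i⁻¹ := by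
    rw [hi, ← sqrt_inv]; exact conj_sqrt hzo (by rwa [orderOf_inv]) htz
  refine ⟨x * i⁻¹, i, mul_mem hx (inv_mem (sqrt_mem hzX)), ?_, sqrt_mem hzX, hti, by group, hii⟩
  have e : t * (x * i⁻¹) * t⁻¹ = x * i⁻¹ := by
    calc t * (x * i⁻¹) * t⁻¹ = (t * x * t⁻¹) * (t * i * t⁻¹)⁻¹ := by group
      _ = (t * x * t⁻¹) * (i * i) * i⁻¹ := by rw [hti]; group
      _ = x * i⁻¹ := by rw [hii, hz]; group
  calc t * (x * i⁻¹) = t * (x * i⁻¹) * t⁻¹ * t := by group
    _ = _ := by rw [e]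

lemma odd_decomp_unique {t : G} {X : Subgroup G} [Finite G] (hX : Odd (Nat.card X))
    {c i c' i' : G} (hcX : c ∈ X) (hc : t * c = c * t) (hiX : i ∈ X) (hi : t * i * t⁻¹ = i⁻¹)
    (hc'X : c' ∈ X) (hc' : t * c' = c' * t) (hi'X : i' ∈ X) (hi' : t * i' * t⁻¹ = i'⁻¹)
    (h : c * i = c' * i') : c = c' ∧ i = i' := by
  have key : ∀ c i : G, t * c = c * t → t * i * t⁻¹ = i⁻¹ →
      (t * (c * i) * t⁻¹)⁻¹ * (c * i) = i * i := by
    intro c i hc hi
    have e : t * c * t⁻¹ = c := by rw [hc]; group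
    have e2 : t * (c * i) * t⁻¹ = c * i⁻¹ := by
      calc t * (c * i) * t⁻¹ = (t * c * t⁻¹) * (t * i * t⁻¹) := by group
        _ = _ := by rw [e, hi]
    rw [e2]; group
  have : i * i = i' * i' := by rw [← key c i hc hi, h, key c' i' hc' hi']
  have hii := eq_of_mul_self_eq (odd_orderOf_of_mem hX hiX) (odd_orderOf_of_mem hX hi'X) this
  subst hii
  exact ⟨mul_right_cancel h, rfl⟩

/-- A group of odd order normalised by a four-group lies in any subgroup containing the
centralisers of its three involutions. -/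
lemma le_of_four_group [Finite G] {N H : Subgroup G} (hN : Odd (Nat.card N)) {x y : G}
    (hx : x * x = 1) (hy : y * y = 1) (hxy : x * y = y * x)
    (hnx : ∀ n ∈ N, x * n * x⁻¹ ∈ N) (hny : ∀ n ∈ N, y * n * y⁻¹ ∈ N)
    (h1 : ∀ n ∈ N, x * n = n * x → n ∈ H) (h2 : ∀ n ∈ N, y * n = n * y → n ∈ H)
    (h3 : ∀ n ∈ N, (x * y) * n = n * (x * y) → n ∈ H) : N ≤ H := by
  intro n hn
  obtain ⟨c, i, hcN, hcx, hiN, hix, rfl, -⟩ := odd_decomp hx hN hnx hn
  refine H.mul_mem (h1 c hcN hcx) ?_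
  have hx' := inv_eq_self hx
  have hy' := inv_eq_self hy
  set y' := y * i * y⁻¹ with hy'def
  set z := i⁻¹ * y' with hz
  have hy'N : y' ∈ N := hny i hiN
  have hzN : z ∈ N := mul_mem (inv_mem hiN) hy'N
  have hzo := odd_orderOf_of_mem hN hzN
  -- `y'` is inverted by `x`
  have hxy' : x * y' * x⁻¹ = y'⁻¹ := by
    rw [hy'def]
    calc x * (y * i * y⁻¹) * x⁻¹ = (x * y) * i * (x * y)⁻¹ := by group
      _ = (y * x) * i * (y * x)⁻¹ := by rw [hxy]
      _ = y * (x * i * x⁻¹) * y⁻¹ := by group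
      _ = _ := by rw [hix]; group
  have hyy : y * y' * y⁻¹ = i := by
    rw [hy'def, hy']
    calc y * (y * i * y) * y = (y * y) * i * (y * y) := by group
      _ = i := by rw [hy, one_mul, mul_one]
  set b := i * sqrt z with hb
  have hbN : b ∈ N := mul_mem hiN (sqrt_mem hzN)
  -- `x` inverts `b`
  have hxb : x * b * x⁻¹ = b⁻¹ := by
    have hxz : x * z * x⁻¹ = i * y'⁻¹ := by
      rw [hz]
      calc x * (i⁻¹ * y') * x⁻¹ = (x * i * x⁻¹)⁻¹ * (x * y' * x⁻¹) := by group
        _ = _ := by rw [hix, hxy', inv_inv]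
    have hio : Odd (orderOf (i * y'⁻¹)) := odd_orderOf_of_mem hN (mul_mem hiN (inv_mem hy'N))
    have e1 : x * sqrt z * x⁻¹ = sqrt (i * y'⁻¹) := conj_sqrt hzo hio hxz
    have e2 : i * (sqrt z)⁻¹ * i⁻¹ = sqrt (i * y'⁻¹) := by
      rw [← sqrt_inv]
      refine conj_sqrt (by rwa [orderOf_inv]) hio ?_
      rw [hz]; group
    calc x * (i * sqrt z) * x⁻¹ = (x * i * x⁻¹) * (x * sqrt z * x⁻¹) := by group
      _ = i⁻¹ * (i * (sqrt z)⁻¹ * i⁻¹) := by rw [hix, e1, e2]
      _ = _ := by rw [hb]; group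
  -- `y` centralises `b`
  have hyb : y * b * y⁻¹ = b := by
    have hyz : y * z * y⁻¹ = z⁻¹ := by
      rw [hz]
      calc y * (i⁻¹ * y') * y⁻¹ = (y * i * y⁻¹)⁻¹ * (y * y' * y⁻¹) := by group
        _ = y'⁻¹ * i := by rw [hyy]
        _ = _ := by group
    have e1 : y * sqrt z * y⁻¹ = (sqrt z)⁻¹ := by
      rw [← sqrt_inv]; exact conj_sqrt hzo (by rwa [orderOf_inv]) hyz
    calc y * (i * sqrt z) * y⁻¹ = y' * (y * sqrt z * y⁻¹) := by rw [hy'def]; group
      _ = y' * (sqrt z)⁻¹ := by rw [e1]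
      _ = i * (sqrt z * sqrt z) * (sqrt z)⁻¹ := by rw [sqrt_mul_self hzo, hz]; group
      _ = b := by rw [hb]; group
  have hbo := odd_orderOf_of_mem hN hbN
  set a := sqrt b with ha
  have haN : a ∈ N := sqrt_mem hbN
  have haa : a * a = b := sqrt_mul_self hbo
  have hxa : x * a * x⁻¹ = a⁻¹ := by
    rw [ha, ← sqrt_inv]; exact conj_sqrt hbo (by rwa [orderOf_inv]) hxb
  have hya : y * a * y⁻¹ = a := conj_sqrt hbo hbo hyb
  have hyaH : a ∈ H := h2 a haN (by
    calc y * a = y * a * y⁻¹ * y := by group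
      _ = a * y := by rw [hya])
  set j := a⁻¹ * i * a⁻¹ with hj
  have hjN : j ∈ N := mul_mem (mul_mem (inv_mem haN) hiN) (inv_mem haN)
  have hxj : x * j * x⁻¹ = j⁻¹ := by
    calc x * (a⁻¹ * i * a⁻¹) * x⁻¹
        = (x * a * x⁻¹)⁻¹ * (x * i * x⁻¹) * (x * a * x⁻¹)⁻¹ := by group
      _ = _ := by rw [hxa, hix, hj]; group
  have hbz : b = y' * (sqrt z)⁻¹ := by
    rw [hb]
    calc i * sqrt z = i * (sqrt z * sqrt z) * (sqrt z)⁻¹ := by group
      _ = _ := by rw [sqrt_mul_self hzo, hz]; group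
  have hyj : y * j * y⁻¹ = j⁻¹ := by
    have e : y' = b * i⁻¹ * b := by
      calc y' = y' * (sqrt z)⁻¹ * i⁻¹ * (i * sqrt z) := by group
        _ = b * i⁻¹ * b := by rw [← hbz, ← hb]
    calc y * (a⁻¹ * i * a⁻¹) * y⁻¹
        = (y * a * y⁻¹)⁻¹ * (y * i * y⁻¹) * (y * a * y⁻¹)⁻¹ := by group
      _ = a⁻¹ * (b * i⁻¹ * b) * a⁻¹ := by rw [hya, ← hy'def, e]
      _ = _ := by rw [← haa, hj]; group
  have hjH : j ∈ H := h3 j hjN (by
    have e : (x * y) * j * (x * y)⁻¹ = j := by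
      calc (x * y) * j * (x * y)⁻¹ = x * (y * j * y⁻¹) * x⁻¹ := by group
        _ = (x * j * x⁻¹)⁻¹ := by rw [hyj]; group
        _ = j := by rw [hxj, inv_inv]
    calc x * y * j = x * y * j * (x * y)⁻¹ * (x * y) := by group
      _ = _ := by rw [e])
  have : i = a * j * a := by rw [hj]; group
  rw [this]
  exact H.mul_mem (H.mul_mem hyaH hjH) hyaH

end Cfsg.Agent.RankOne
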