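import Mathlib
import Cfsg.Prelude.Def_LieRecognition
import Cfsg.Agent.Lib.RankOne.OddOrder

/-!
The split rank one set-up `Cfsg.IsRankOneSetup`: regularity, involutions and their fixed points,
the structure equation, the centraliser of the distinguished involution.
-/

set_option autoImplicit false

namespace Cfsg.Agent.RankOne

open MulAction

variable {G Ω : Type*} [Group G] [MulAction G Ω] {a : Ω} {t : G} {Q : Subgroup G}

/-- The two-point stabiliser `D`. -/
abbrev twoStab (G : Type*) [Group G] {Ω : Type*} [MulAction G Ω] (a : Ω) (t : G) : Subgroup G :=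
  MulAction.stabilizer G a ⊓ MulAction.stabilizer G (t • a)

section
variable (hS : Cfsg.IsRankOneSetup G Ω a t Q)
include hS

lemma t_inv : t⁻¹ = t := inv_eq_self hS.mul_self

lemma ta_ne : t • a ≠ a := fun h => hS.not_mem (mem_stabilizer_iff.2 h)

lemma t_smul_ta : t • (t • a) = a := by rw [← mul_smul, hS.mul_self, one_smul]

lemma pretransitive : IsPretransitive G Ω :=
  letI := hS.two_transitive
  isPretransitive_of_is_two_pretransitive (G := G) (α := Ω)

lemma exists_smul_pair {p q p' q' : Ω} (h : p ≠ q) (h' : p' ≠ q') :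
    ∃ g : G, g • p = p' ∧ g • q = q' :=
  is_two_pretransitive_iff.1 hS.two_transitive h h'

lemma Q_fix_a {x : G} (hx : x ∈ Q) : x • a = a := hS.le hx

lemma Q_fix_unique {x : G} (hx : x ∈ Q) {b : Ω} (hb : b ≠ a) (h : x • b = b) : x = 1 := by
  obtain ⟨g, hga, hgb⟩ := exists_smul_pair hS (ta_ne hS).symm hb.symm
  have hg' : g⁻¹ ∈ stabilizer G a := inv_mem (mem_stabilizer_iff.2 hga)
  have h1 : g⁻¹ * x * g ∈ Q := by simpa using hS.conj_mem g⁻¹ hg' x hx
  have h2 : g⁻¹ * x * g ∈ stabilizer G (t • a) := by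
    rw [mem_stabilizer_iff, mul_smul, mul_smul, hgb, h, inv_smul_eq_iff, hgb]
  have h3 : g⁻¹ * x * g = 1 :=
    Subgroup.mem_bot.1 (hS.inf_eq_bot ▸ Subgroup.mem_inf.2 ⟨h1, h2⟩)
  calc x = g * (g⁻¹ * x * g) * g⁻¹ := by group
    _ = 1 := by rw [h3]; group

lemma Q_fixed_eq {x : G} (hx : x ∈ Q) (hx1 : x ≠ 1) {b : Ω} (h : x • b = b) : b = a :=
  by_contra fun hb => hx1 (Q_fix_unique hS hx hb h)

lemma twoStab_le_normalizer : twoStab G a t ≤ Subgroup.normalizer (Q : Set G) := by
  intro d hd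
  rw [Subgroup.mem_normalizer_iff]
  intro x
  constructor
  · intro hx; exact hS.conj_mem d hd.1 x hx
  · intro hx
    have := hS.conj_mem d⁻¹ (inv_mem hd.1) _ hx
    simpa [mul_assoc] using this

lemma exists_decomp {g : G} (hg : g • a = a) :
    ∃ q ∈ Q, ∃ d ∈ twoStab G a t, g = q * d := by
  have h : g ∈ Q ⊔ twoStab G a t := by
    rw [twoStab, hS.sup_eq]; exact hg
  rw [← SetLike.mem_coe, Subgroup.coe_mul_of_right_le_normalizer_left Q (twoStab G a t)
    (twoStab_le_normalizer hS)] at h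
  obtain ⟨q, hq, d, hd, rfl⟩ := h
  exact ⟨q, hq, d, hd, rfl⟩

lemma decomp_unique {q d q' d' : G} (hq : q ∈ Q) (hd : d ∈ twoStab G a t) (hq' : q' ∈ Q)
    (hd' : d' ∈ twoStab G a t) (h : q * d = q' * d') : q = q' ∧ d = d' := by
  have e : q'⁻¹ * q = d' * d⁻¹ := by
    calc q'⁻¹ * q = q'⁻¹ * (q * d) * d⁻¹ := by group
      _ = _ := by rw [h]; group
  have h1 : q'⁻¹ * q ∈ Q ⊓ stabilizer G (t • a) :=
    Subgroup.mem_inf.2 ⟨mul_mem (inv_mem hq') hq,
      by rw [e]; exact (Subgroup.mem_inf.1 (mul_mem hd' (inv_mem hd))).2⟩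
  rw [hS.inf_eq_bot, Subgroup.mem_bot, inv_mul_eq_one] at h1
  subst h1
  exact ⟨rfl, mul_left_cancel h⟩

lemma regular {b c : Ω} (hb : b ≠ a) (hc : c ≠ a) : ∃ x ∈ Q, x • b = c := by
  obtain ⟨g, hga, hgb⟩ := exists_smul_pair hS (ta_ne hS).symm hb.symm
  obtain ⟨g', hga', hgc⟩ := exists_smul_pair hS (ta_ne hS).symm hc.symm
  obtain ⟨q, hq, d, hd, rfl⟩ := exists_decomp hS hga
  obtain ⟨q', hq', d', hd', rfl⟩ := exists_decomp hS hga'
  rw [mul_smul, hd.2] at hgb
  rw [mul_smul, hd'.2] at hgc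
  refine ⟨q' * q⁻¹, mul_mem hq' (inv_mem hq), ?_⟩
  rw [mul_smul, ← hgb, inv_smul_smul, hgc]

lemma regular_unique {b : Ω} (hb : b ≠ a) {x y : G} (hx : x ∈ Q) (hy : y ∈ Q)
    (h : x • b = y • b) : x = y := by
  have := Q_fix_unique hS (mul_mem (inv_mem hy) hx) hb (by rw [mul_smul, h, inv_smul_smul])
  rw [inv_mul_eq_one] at this
  exact this.symm

lemma regular' {c : Ω} (hc : c ≠ a) : ∃ x ∈ Q, x • (t • a) = c := regular hS (ta_ne hS) hc

lemma smul_Q_ne {x : G} (hx : x ∈ Q) {b : Ω} (hb : b ≠ a) : x • b ≠ a := fun h => hb (by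
  calc b = x⁻¹ • x • b := (inv_smul_smul x b).symm
    _ = a := by rw [h]; exact Q_fix_a hS (inv_mem hx))

/-- The bijection `Q ≃ Ω ∖ {a}`. -/
noncomputable def qEquiv : Q ≃ {b : Ω // b ≠ a} :=
  Equiv.ofBijective (fun x => ⟨(x : G) • t • a, smul_Q_ne hS x.2 (ta_ne hS)⟩)
    ⟨fun x y h => Subtype.ext (regular_unique hS (ta_ne hS) x.2 y.2 (congrArg Subtype.val h)),
      fun b => by
        obtain ⟨x, hx, h⟩ := regular' hS b.2
        exact ⟨⟨x, hx⟩, Subtype.ext h⟩⟩

lemma finite_omega [Finite G] : Finite Ω := by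
  haveI := pretransitive hS
  exact Finite.of_surjective (fun g : G => g • a) (fun b => exists_smul_eq G a b)

lemma card_omega [Finite G] : Nat.card Ω = Nat.card Q + 1 := by
  haveI := finite_omega hS
  classical
  rw [Nat.card_congr (qEquiv hS), ← Nat.card_congr (Equiv.optionSubtypeNe a)]
  simp [Nat.card_eq_fintype_card, Finite.card_option]

lemma odd_card_omega [Finite G] : Odd (Nat.card Ω) := by
  rw [card_omega hS]; exact hS.even_card.add_one

lemma card_stabilizer [Finite G] :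
    Nat.card (stabilizer G a) = Nat.card Q * Nat.card (twoStab G a t) := by
  rw [← Nat.card_prod]
  refine (Nat.card_congr (Equiv.ofBijective
    (fun p : Q × twoStab G a t => (⟨p.1 * p.2, mul_mem (hS.le p.1.2) p.2.2.1⟩ : stabilizer G a))
    ⟨?_, ?_⟩)).symm
  · rintro ⟨q, d⟩ ⟨q', d'⟩ h
    obtain ⟨h1, h2⟩ := decomp_unique hS q.2 d.2 q'.2 d'.2 (congrArg Subtype.val h)
    exact Prod.ext (Subtype.ext h1) (Subtype.ext h2)
  · rintro ⟨g, hg⟩
    obtain ⟨q, hq, d, hd, rfl⟩ := exists_decomp hS hg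
    exact ⟨(⟨q, hq⟩, ⟨d, hd⟩), rfl⟩

lemma card_group [Finite G] :
    Nat.card G = Nat.card Q * Nat.card (twoStab G a t) * (Nat.card Q + 1) := by
  haveI := pretransitive hS
  rw [← card_stabilizer hS, ← card_omega hS, ← index_stabilizer_of_transitive G a,
    Subgroup.card_mul_index]

lemma conj_t_twoStab {d : G} (hd : d ∈ twoStab G a t) : t * d * t⁻¹ ∈ twoStab G a t := by
  rw [t_inv hS]
  refine ⟨?_, ?_⟩
  · show (t * d * t) • a = a
    rw [mul_smul, mul_smul, hd.2, t_smul_ta hS]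
  · show (t * d * t) • t • a = t • a
    rw [mul_smul, mul_smul, t_smul_ta hS, hd.1]

end

/-! ### Involutions -/

/-- An involution. -/
def IsInv (u : G) : Prop := u ≠ 1 ∧ u * u = 1

lemma IsInv.smul_smul {u : G} (hu : IsInv u) (b : Ω) : u • u • b = b := by
  rw [← mul_smul, hu.2, one_smul]

lemma IsInv.conj {u : G} (hu : IsInv u) (g : G) : IsInv (g * u * g⁻¹) := by
  refine ⟨fun h => hu.1 ?_, ?_⟩
  · calc u = g⁻¹ * (g * u * g⁻¹) * g := by group
      _ = 1 := by rw [h]; group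
  · calc g * u * g⁻¹ * (g * u * g⁻¹) = g * (u * u) * g⁻¹ := by group
      _ = 1 := by rw [hu.2]; group

section
variable (hS : Cfsg.IsRankOneSetup G Ω a t Q)
include hS

lemma t_isInv : IsInv t := ⟨hS.ne_one, hS.mul_self⟩

lemma invol_mem_Q [Finite G] {s : G} (hs : IsInv s) (hsa : s • a = a) : s ∈ Q := by
  obtain ⟨q, hq, d, hd, rfl⟩ := exists_decomp hS hsa
  have h : q * (d * q * d⁻¹) * (d * d) = 1 * 1 := by
    calc q * (d * q * d⁻¹) * (d * d) = q * d * (q * d) := by group
      _ = _ := by rw [hs.2, one_mul]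
  have := (decomp_unique hS (mul_mem hq (hS.conj_mem d hd.1 q hq)) (mul_mem hd hd) Q.one_mem
    (one_mem _) h).2
  rw [eq_one_of_mul_self (odd_orderOf_of_mem hS.odd_card hd) this, mul_one]
  exact hq

lemma exists_fixed [Finite G] {u : G} (hu : IsInv u) : ∃ c : Ω, u • c = c := by
  haveI := finite_omega hS
  haveI : Fact (Nat.Prime 2) := ⟨Nat.prime_two⟩
  have hp : IsPGroup 2 (Subgroup.zpowers u) := by
    refine IsPGroup.of_card (n := 1) ?_
    rw [Nat.card_zpowers, pow_one]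
    exact orderOf_eq_prime (by rw [pow_two, hu.2]) hu.1
  have h := hp.card_modEq_card_fixedPoints (α := Ω)
  have hodd := odd_card_omega hS
  rw [Nat.odd_iff] at hodd
  have hne : Nat.card (fixedPoints (Subgroup.zpowers u) Ω) ≠ 0 := by
    intro h0; rw [h0, Nat.ModEq] at h; omega
  obtain ⟨⟨c, hc⟩⟩ := (Nat.card_ne_zero.1 hne).1
  exact ⟨c, hc ⟨u, Subgroup.mem_zpowers u⟩⟩

lemma fixed_unique [Finite G] {u : G} (hu : IsInv u) {c c' : Ω} (hc : u • c = c)
    (hc' : u • c' = c') : c = c' := by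
  haveI := pretransitive hS
  obtain ⟨g, hg⟩ := exists_smul_eq G c a
  have h1 : (g * u * g⁻¹) • a = a := by rw [mul_smul, mul_smul, ← hg, inv_smul_smul, hc]
  have h2 : (g * u * g⁻¹) • g • c' = g • c' := by rw [mul_smul, mul_smul, inv_smul_smul, hc']
  have := Q_fixed_eq hS (invol_mem_Q hS (hu.conj g) h1) (hu.conj g).1 h2
  rw [← hg] at this
  exact (smul_left_cancel g this).symm

lemma t_fix_ne_a {c : Ω} (hc : t • c = c) : c ≠ a := fun h => ta_ne hS (by rw [← h]; exact hc)

lemma t_fix_ne_ta {c : Ω} (hc : t • c = c) : c ≠ t • a := fun h =>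
  ta_ne hS (by rw [h, t_smul_ta hS] at hc; exact hc.symm)

/-- A non-identity element of the conjugate of `Q` attached to `c` only fixes `c`; in particular
the centraliser of an involution fixes its fixed point. -/
lemma comm_fix [Finite G] {u g : G} (hu : IsInv u) {c : Ω} (hc : u • c = c)
    (h : u * g = g * u) : g • c = c :=
  fixed_unique hS hu (by rw [← mul_smul, h, mul_smul, hc]) hc

lemma odd_mul [Finite G] {u v : G} (hu : IsInv u) (hv : IsInv v) {c : Ω} (hc : u • c = c)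
    (hvc : v • c ≠ c) : Odd (orderOf (u * v)) := by
  by_contra hodd
  rw [Nat.not_odd_iff_even] at hodd
  obtain ⟨k, hk⟩ := hodd
  have hpos : 0 < orderOf (u * v) := orderOf_pos _
  set z := (u * v) ^ k with hz
  have hz1 : z ≠ 1 := fun h => by
    have h2 : orderOf (u * v) ≤ k := orderOf_le_of_pow_eq_one (by omega) h
    omega
  have hzz : z * z = 1 := by rw [hz, ← pow_add, ← hk, pow_orderOf_eq_one]
  have hzi : z⁻¹ = z := inv_eq_self hzz
  have e1 : u * (u * v) * u⁻¹ = (u * v)⁻¹ := by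
    rw [mul_inv_rev, inv_eq_self hu.2, inv_eq_self hv.2, ← mul_assoc u u, hu.2, one_mul]
  have huz : u * z * u⁻¹ = z := by
    rw [hz, ← conj_pow, e1, inv_pow, ← hz, hzi]
  have huz' : u * z = z * u := by
    calc u * z = u * z * u⁻¹ * u := by group
      _ = _ := by rw [huz]
  have hvz : z * v = v * z := by
    have hc' : u * v * z = z * (u * v) := (Commute.self_pow (u * v) k).eq
    calc z * v = u * u * z * v := by rw [hu.2, one_mul]
      _ = u * (z * (u * v)) := by rw [mul_assoc u u z, huz']; group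
      _ = u * u * (v * z) := by rw [← hc']; group
      _ = v * z := by rw [hu.2, one_mul]
  have hzc : z • c = c := comm_fix hS hu hc huz'
  exact hvc (comm_fix hS ⟨hz1, hzz⟩ hzc hvz)

lemma invol_conj [Finite G] {u v : G} (hu : IsInv u) (hv : IsInv v) : ∃ g : G, g * u * g⁻¹ = v := by
  obtain ⟨c, hc⟩ := exists_fixed hS hu
  by_cases hvc : v • c = c
  · -- move the fixed point of `u` away
    haveI := pretransitive hS
    obtain ⟨g, hg⟩ := exists_smul_eq G a c
    set w := g * t * g⁻¹ with hw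
    have hwi : IsInv w := (t_isInv hS).conj g
    have hwc : w • c ≠ c := by
      rw [hw, mul_smul, mul_smul, ← hg, inv_smul_smul]
      exact fun h => ta_ne hS (smul_left_cancel g h)
    obtain ⟨x, -, hx⟩ := dihedral_conj hu.2 hwi.2 (odd_mul hS hu hwi hc hwc)
    obtain ⟨y, -, hy⟩ := dihedral_conj hv.2 hwi.2 (odd_mul hS hv hwi hvc hwc)
    refine ⟨y⁻¹ * x, ?_⟩
    calc y⁻¹ * x * u * (y⁻¹ * x)⁻¹ = y⁻¹ * (x * u * x⁻¹) * y := by group
      _ = v := by rw [hx, ← hy]; group
  · obtain ⟨x, -, hx⟩ := dihedral_conj hu.2 hv.2 (odd_mul hS hu hv hc hvc)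
    exact ⟨x, hx⟩

/-- Two involutions swapping the same two points are conjugate by an element fixing both, commuting
with whatever commutes with both. -/
lemma swap_conj [Finite G] {u v : G} (hu : IsInv u) (hv : IsInv v) {p : Ω} (hp : u • p ≠ p)
    (h : v • p = u • p) :
    ∃ w ∈ Subgroup.zpowers (u * v), w • p = p ∧ w • u • p = u • p ∧ w * u * w⁻¹ = v := by
  have hodd : Odd (orderOf (u * v)) := by
    obtain ⟨c, hc⟩ := exists_fixed hS hu
    by_cases hvc : v • c = c
    · have hf : (u * v) • p = p := by rw [mul_smul, h, hu.smul_smul]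
      have hf' : (u * v) • c = c := by rw [mul_smul, hvc, hc]
      haveI := pretransitive hS
      -- the element fixes two distinct points, so it is conjugate into the two-point stabiliser
      have hpc : p ≠ c := fun e => hp (by rw [e]; exact hc)
      obtain ⟨g, hg1, hg2⟩ := exists_smul_pair hS (ta_ne hS).symm hpc
      have hmem : g⁻¹ * (u * v) * g ∈ twoStab G a t := by
        refine Subgroup.mem_inf.2 ⟨?_, ?_⟩ <;> rw [mem_stabilizer_iff, mul_smul, mul_smul]
        · rw [hg1, hf, inv_smul_eq_iff, hg1]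
        · rw [hg2, hf', inv_smul_eq_iff, hg2]
      have := odd_orderOf_of_mem hS.odd_card hmem
      rwa [show g⁻¹ * (u * v) * g = MulAut.conj g⁻¹ (u * v) by simp, MulEquiv.orderOf_eq] at this
    · exact odd_mul hS hu hv hc hvc
  obtain ⟨w, hw, hwu⟩ := dihedral_conj hu.2 hv.2 hodd
  have hle : Subgroup.zpowers (u * v) ≤ stabilizer G p ⊓ stabilizer G (u • p) := by
    rw [Subgroup.zpowers_le]
    refine Subgroup.mem_inf.2 ⟨?_, ?_⟩ <;> rw [mem_stabilizer_iff, mul_smul]
    · rw [h, hu.smul_smul]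
    · have : v • u • p = p := by rw [← h, hv.smul_smul]
      rw [this]
  exact ⟨w, hw, (hle hw).1, (hle hw).2, hwu⟩

/-- The centraliser of an involution fixing `a` is transitive on the other points. -/
lemma centralizer_transitive [Finite G] {s : G} (hs : IsInv s) (hsa : s • a = a) {p p' : Ω}
    (hp : p ≠ a) (hp' : p' ≠ a) : ∃ g : G, g * s = s * g ∧ g • p = p' := by
  have hne : ∀ q : Ω, q ≠ a → s • q ≠ q := fun q hq h => hq (fixed_unique hS hs h hsa)
  obtain ⟨g₀, h1, h2⟩ := exists_smul_pair hS (hne p hp).symm (hne p' hp').symm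
  set u := g₀ * s * g₀⁻¹ with hu
  have hui : IsInv u := hs.conj g₀
  have hup : u • p' = s • p' := by
    have e : g₀⁻¹ • p' = p := by rw [inv_smul_eq_iff, h1]
    rw [hu, mul_smul, mul_smul, e, h2]
  have hne' : u • p' ≠ p' := by rw [hup]; exact hne p' hp'
  obtain ⟨w, -, hw1, -, hw3⟩ := swap_conj hS hui hs hne' hup.symm
  refine ⟨w * g₀, ?_, by rw [mul_smul, h1, hw1]⟩
  calc w * g₀ * s = w * u * w⁻¹ * (w * g₀) := by rw [hu]; group
    _ = _ := by rw [hw3]

/-- The two-point stabiliser permutes the involutions fixing `a` transitively. -/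
lemma twoStab_transitive [Finite G] {s s' : G} (hs : IsInv s) (hsa : s • a = a) (hs' : IsInv s')
    (hsa' : s' • a = a) : ∃ d ∈ twoStab G a t, d * s * d⁻¹ = s' := by
  obtain ⟨g, hg⟩ := invol_conj hS hs hs'
  have hga : g • a = a := by
    refine fixed_unique hS hs' ?_ hsa'
    rw [← hg, mul_smul, mul_smul, inv_smul_smul, hsa]
  have hgb : g • t • a ≠ a := fun e => ta_ne hS (smul_left_cancel g (e.trans hga.symm))
  obtain ⟨h, hh, hhb⟩ := centralizer_transitive hS hs' hsa' hgb (ta_ne hS)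
  have hha : h • a = a := comm_fix hS hs' hsa' hh.symm
  refine ⟨h * g, ⟨?_, ?_⟩, ?_⟩
  · show (h * g) • a = a
    rw [mul_smul, hga, hha]
  · show (h * g) • t • a = t • a
    rw [mul_smul, hhb]
  · calc h * g * s * (h * g)⁻¹ = h * (g * s * g⁻¹) * h⁻¹ := by group
      _ = s' := by rw [hg, hh]; group

/-! ### The elements of `D` inverted by `t` -/

lemma mem_invertedBy_iff {k : G} :
    k ∈ Cfsg.invertedBy (twoStab G a t) t ↔ IsInv (t * k) ∧ (t * k) • a = t • a := by
  constructor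
  · rintro ⟨hk, hki⟩
    refine ⟨⟨?_, ?_⟩, ?_⟩
    · intro h
      have : t = k⁻¹ := mul_eq_one_iff_eq_inv.1 h
      exact hS.not_mem (by rw [this]; exact inv_mem hk.1)
    · calc t * k * (t * k) = t * k * t⁻¹ * k := by rw [t_inv hS]; group
        _ = 1 := by rw [hki]; group
    · rw [mul_smul, hk.1]
  · rintro ⟨hi, ha⟩
    have ha' : k • a = a := by
      rw [mul_smul] at ha; exact smul_left_cancel t ha
    refine ⟨⟨ha', ?_⟩, ?_⟩
    · show k • t • a = t • a
      have h := hi.smul_smul a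
      rw [ha, mul_smul] at h
      apply smul_left_cancel t
      rw [h, t_smul_ta hS]
    · rw [t_inv hS]
      calc t * k * t = t * k * (t * k) * k⁻¹ := by group
        _ = k⁻¹ := by rw [hi.2, one_mul]

lemma t_mul_eq_conj [Finite G] {k : G} (hk : k ∈ Cfsg.invertedBy (twoStab G a t) t) :
    sqrt k ∈ twoStab G a t ∧ t * k = (sqrt k)⁻¹ * t * sqrt k := by
  obtain ⟨hkD, hki⟩ := hk
  have ho := odd_orderOf_of_mem hS.odd_card hkD
  refine ⟨sqrt_mem hkD, ?_⟩
  have h : t * sqrt k * t⁻¹ = (sqrt k)⁻¹ := by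
    rw [← sqrt_inv]; exact conj_sqrt ho (by rwa [orderOf_inv]) hki
  calc t * k = t * sqrt k * sqrt k := by rw [mul_assoc, sqrt_mul_self ho]
    _ = (t * sqrt k * t⁻¹) * t * sqrt k := by group
    _ = _ := by rw [h]

/-- Involutions not fixing `a`: parametrised by `K × Q`. -/
noncomputable def outEquivKQ [Finite G] :
    Cfsg.invertedBy (twoStab G a t) t × Q ≃ {u : G // IsInv u ∧ u • a ≠ a} := by
  refine Equiv.ofBijective (fun p => ⟨(p.2 : G) * (t * (p.1 : G)) * (p.2 : G)⁻¹,
    ((mem_invertedBy_iff hS).1 p.1.2).1.conj _, ?_⟩) ⟨?_, ?_⟩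
  · rw [mul_smul, mul_smul, Q_fix_a hS (inv_mem p.2.2), ((mem_invertedBy_iff hS).1 p.1.2).2]
    exact smul_Q_ne hS p.2.2 (ta_ne hS)
  · rintro ⟨k, q⟩ ⟨k', q'⟩ h
    have h' : (q : G) * (t * k) * (q : G)⁻¹ = q' * (t * k') * (q' : G)⁻¹ := congrArg Subtype.val h
    have hq : q = q' := by
      apply Subtype.ext
      refine regular_unique hS (ta_ne hS) q.2 q'.2 ?_
      have := congrArg (fun g : G => g • a) h'
      simpa only [mul_smul, Q_fix_a hS (inv_mem q.2), Q_fix_a hS (inv_mem q'.2),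
        show (k : G) • a = a from k.2.1.1, show (k' : G) • a = a from k'.2.1.1] using this
    subst hq
    exact Prod.ext (Subtype.ext (mul_left_cancel (mul_left_cancel (mul_right_cancel h')))) rfl
  · rintro ⟨u, hu, hua⟩
    obtain ⟨q, hq, hqa⟩ := regular' hS hua
    have hk : t * (q⁻¹ * u * q) ∈ Cfsg.invertedBy (twoStab G a t) t := by
      rw [mem_invertedBy_iff hS, ← mul_assoc t t, hS.mul_self, one_mul]
      refine ⟨by simpa using hu.conj q⁻¹, ?_⟩
      rw [mul_smul, mul_smul, Q_fix_a hS hq, inv_smul_eq_iff, hqa]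
    refine ⟨(⟨_, hk⟩, ⟨q, hq⟩), Subtype.ext ?_⟩
    show q * (t * (t * (q⁻¹ * u * q))) * q⁻¹ = u
    rw [← mul_assoc t t, hS.mul_self]; group

/-- Involutions not fixing `a`: parametrised by fixed point and an involution fixing `a`. -/
noncomputable def outEquivIQ [Finite G] :
    Cfsg.involutionsIn (stabilizer G a : Set G) × {b : Ω // b ≠ a} ≃
      {u : G // IsInv u ∧ u • a ≠ a} := by
  have hg : ∀ b : Ω, ∃ g : G, g • a = b := fun b =>
    (haveI := pretransitive hS; exists_smul_eq G a b)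
  choose g hg using hg
  have hfix : ∀ (b : Ω) (s : G), s • a = a → (g b * s * (g b)⁻¹) • b = b := by
    intro b s hs
    have : (g b)⁻¹ • b = a := by rw [inv_smul_eq_iff, hg]
    rw [mul_smul, mul_smul, this, hs, hg]
  refine Equiv.ofBijective (fun p => ⟨g p.2 * p.1 * (g p.2)⁻¹,
    (IsInv.conj ⟨p.1.2.2.1, p.1.2.2.2⟩ _), fun h => p.2.2 ?_⟩) ⟨?_, ?_⟩
  · exact (fixed_unique hS (IsInv.conj ⟨p.1.2.2.1, p.1.2.2.2⟩ _) (hfix p.2 p.1 p.1.2.1) h)
  · rintro ⟨s, b⟩ ⟨s', b'⟩ h
    have h' : g b * (s : G) * (g b)⁻¹ = g b' * (s' : G) * (g b')⁻¹ := congrArg Subtype.val h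
    have hb : b = b' := by
      apply Subtype.ext
      refine fixed_unique hS (IsInv.conj ⟨s.2.2.1, s.2.2.2⟩ (g b)) (hfix b s s.2.1) ?_
      rw [h']; exact hfix b' s' s'.2.1
    subst hb
    exact Prod.ext (Subtype.ext (mul_left_cancel (mul_right_cancel h'))) rfl
  · rintro ⟨u, hu, hua⟩
    obtain ⟨c, hc⟩ := exists_fixed hS hu
    have hca : c ≠ a := fun e => hua (by rw [e] at hc; exact hc)
    have hs : IsInv ((g c)⁻¹ * u * g c) := by simpa using hu.conj (g c)⁻¹
    refine ⟨(⟨(g c)⁻¹ * u * g c, ?_, hs.1, hs.2⟩, ⟨c, hca⟩), Subtype.ext ?_⟩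
    · show ((g c)⁻¹ * u * g c) • a = a
      rw [mul_smul, mul_smul, hg, hc, inv_smul_eq_iff, hg]
    · show g c * ((g c)⁻¹ * u * g c) * (g c)⁻¹ = u
      group

/-- `|K|` is the number of involutions fixing `a`. -/
lemma card_inverted [Finite G] :
    Nat.card (Cfsg.invertedBy (twoStab G a t) t) =
      Nat.card (Cfsg.involutionsIn (stabilizer G a : Set G)) := by
  have h := Nat.card_congr ((outEquivKQ hS).trans (outEquivIQ hS).symm)
  rw [Nat.card_prod, Nat.card_prod, ← Nat.card_congr (qEquiv hS)] at h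
  exact Nat.eq_of_mul_eq_mul_right Nat.card_pos h

lemma card_twoStab [Finite G] :
    Nat.card (twoStab G a t) = Nat.card (twoStab G a t ⊓ Subgroup.centralizer {t} : Subgroup G) *
      Nat.card (Cfsg.invertedBy (twoStab G a t) t) := by
  rw [← Nat.card_prod]
  refine (Nat.card_congr (Equiv.ofBijective
    (fun p : (twoStab G a t ⊓ Subgroup.centralizer {t} : Subgroup G) ×
        Cfsg.invertedBy (twoStab G a t) t =>
      (⟨p.1 * p.2, mul_mem p.1.2.1 p.2.2.1⟩ : twoStab G a t)) ⟨?_, ?_⟩)).symm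
  · rintro ⟨c, i⟩ ⟨c', i'⟩ h
    obtain ⟨h1, h2⟩ := odd_decomp_unique hS.odd_card c.2.1
      (Subgroup.mem_centralizer_singleton_iff.1 c.2.2).symm i.2.1 i.2.2 c'.2.1
      (Subgroup.mem_centralizer_singleton_iff.1 c'.2.2).symm i'.2.1 i'.2.2 (congrArg Subtype.val h)
    exact Prod.ext (Subtype.ext h1) (Subtype.ext h2)
  · rintro ⟨x, hx⟩
    obtain ⟨c, i, hc, hct, hi, hit, rfl, -⟩ :=
      odd_decomp hS.mul_self hS.odd_card (fun y hy => conj_t_twoStab hS hy) hx
    exact ⟨(⟨c, hc, Subgroup.mem_centralizer_singleton_iff.2 hct.symm⟩, ⟨i, hi, hit⟩), rfl⟩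

/-! ### The structure equation -/

lemma structure_exists [Finite G] :
    ∃ s r : G, s ∈ Cfsg.involutionsIn (stabilizer G a : Set G) ∧ r ∈ Q ∧
      t * s * t = r⁻¹ * t * r := by
  obtain ⟨c, hc⟩ := exists_fixed hS (t_isInv hS)
  obtain ⟨r, hr, hrb⟩ := regular' hS (t_fix_ne_a hS hc)
  have hu : IsInv (r⁻¹ * t * r) := by simpa using (t_isInv hS).conj r⁻¹
  have hs : IsInv (t * (r⁻¹ * t * r) * t) := by simpa [t_inv hS] using hu.conj t
  refine ⟨t * (r⁻¹ * t * r) * t, r, ⟨?_, hs.1, hs.2⟩, hr, ?_⟩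
  · show (t * (r⁻¹ * t * r) * t) • a = a
    rw [mul_smul, mul_smul, mul_smul, mul_smul, hrb, hc, ← hrb, inv_smul_smul, t_smul_ta hS]
  · calc t * (t * (r⁻¹ * t * r) * t) * t = (t * t) * (r⁻¹ * t * r) * (t * t) := by group
      _ = _ := by rw [hS.mul_self]; group

lemma structure_r [Finite G] {s r : G} (hs : s ∈ Cfsg.involutionsIn (stabilizer G a : Set G))
    (h : t * s * t = r⁻¹ * t * r) : t • r • t • a = r • t • a := by
  have h1 : (t * s * t) • t • a = t • a := by
    rw [mul_smul, mul_smul, t_smul_ta hS, hs.1]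
  rw [h, mul_smul, mul_smul, inv_smul_eq_iff] at h1
  exact h1

lemma structure_unique [Finite G] {s r s' r' : G}
    (hs : s ∈ Cfsg.involutionsIn (stabilizer G a : Set G)) (hr : r ∈ Q)
    (h : t * s * t = r⁻¹ * t * r) (hs' : s' ∈ Cfsg.involutionsIn (stabilizer G a : Set G))
    (hr' : r' ∈ Q) (h' : t * s' * t = r'⁻¹ * t * r') : s = s' ∧ r = r' := by
  have e : r = r' := regular_unique hS (ta_ne hS) hr hr'
    (fixed_unique hS (t_isInv hS) (structure_r hS hs h) (structure_r hS hs' h'))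
  subst e
  exact ⟨mul_left_cancel (mul_right_cancel (h.trans h'.symm)), rfl⟩

/-- An element of `D` centralising `t` centralises `r` and `s` of the structure equation. -/
lemma comm_of_comm_t [Finite G] {s r d : G}
    (hs : s ∈ Cfsg.involutionsIn (stabilizer G a : Set G)) (hr : r ∈ Q)
    (h : t * s * t = r⁻¹ * t * r) (hd : d ∈ twoStab G a t) (hdt : d * t = t * d) :
    d * r = r * d ∧ d * s = s * d := by
  have hc : t • r • t • a = r • t • a := structure_r hS hs h
  have hdc : d • r • t • a = r • t • a := comm_fix hS (t_isInv hS) hc hdt.symm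
  have hdr : d * r * d⁻¹ = r := by
    refine regular_unique hS (ta_ne hS) (hS.conj_mem d hd.1 r hr) hr ?_
    have hd2 : d⁻¹ • t • a = t • a := by rw [inv_smul_eq_iff]; exact hd.2.symm
    rw [mul_smul, mul_smul, hd2, hdc]
  have hdr' : d * r = r * d := by
    calc d * r = d * r * d⁻¹ * d := by group
      _ = _ := by rw [hdr]
  refine ⟨hdr', ?_⟩
  have e : s = t * (r⁻¹ * t * r) * t := by
    rw [← h]
    calc s = (t * t) * s * (t * t) := by rw [hS.mul_self]; group
      _ = _ := by group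
  rw [e]
  have c1 : Commute d t := hdt
  have c2 : Commute d r := hdr'
  exact ((c1.mul_right ((c2.inv_right.mul_right c1).mul_right c2)).mul_right c1).eq

omit hS in
/-- Orbit-stabiliser for the two-point stabiliser acting on the involutions fixing `a`. -/
lemma card_twoStab_orbit [Finite G] {s : G} (hS : Cfsg.IsRankOneSetup G Ω a t Q)
    (hs : s ∈ Cfsg.involutionsIn (stabilizer G a : Set G)) :
    Nat.card (twoStab G a t) = Nat.card (Cfsg.involutionsIn (stabilizer G a : Set G)) *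
      Nat.card (twoStab G a t ⊓ Subgroup.centralizer {s} : Subgroup G) := by
  classical
  let D := twoStab G a t
  letI : MulAction D G := MulAction.compHom G ((MulAut.conj (G := G)).comp D.subtype)
  have hsmul : ∀ (d : D) (x : G), d • x = (d : G) * x * (d : G)⁻¹ := fun d x => rfl
  have horb : MulAction.orbit D s = Cfsg.involutionsIn (stabilizer G a : Set G) := by
    ext x
    constructor
    · rintro ⟨d, rfl⟩
      show d • s ∈ _
      rw [hsmul]
      exact ⟨mul_mem (mul_mem d.2.1 hs.1) (inv_mem d.2.1), (IsInv.conj ⟨hs.2.1, hs.2.2⟩ _).1,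
        (IsInv.conj ⟨hs.2.1, hs.2.2⟩ _).2⟩
    · intro hx
      obtain ⟨d, hd, hdx⟩ := twoStab_transitive hS ⟨hs.2.1, hs.2.2⟩ hs.1 ⟨hx.2.1, hx.2.2⟩ hx.1
      exact ⟨⟨d, hd⟩, hdx⟩
  have hstab : stabilizer D s = (twoStab G a t ⊓ Subgroup.centralizer {s}).subgroupOf D := by
    ext d
    rw [mem_stabilizer_iff, hsmul, Subgroup.mem_subgroupOf, Subgroup.mem_inf,
      Subgroup.mem_centralizer_singleton_iff, mul_inv_eq_iff_eq_mul]
    exact ⟨fun h => ⟨d.2, h⟩, fun h => h.2⟩
  have h := Subgroup.index_mul_card (stabilizer D s)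
  rw [index_stabilizer, ← Nat.card_coe_set_eq, horb, hstab,
    Nat.card_congr (Subgroup.subgroupOfEquivOfLe inf_le_left).toEquiv] at h
  exact h.symm

/-- `C_D(t) = C_D(s)` for the distinguished involution `s`. -/
lemma centralizer_t_eq [Finite G] {s r : G}
    (hs : s ∈ Cfsg.involutionsIn (stabilizer G a : Set G)) (hr : r ∈ Q)
    (h : t * s * t = r⁻¹ * t * r) :
    twoStab G a t ⊓ Subgroup.centralizer {t} = twoStab G a t ⊓ Subgroup.centralizer {s} := by
  refine Subgroup.eq_of_le_of_card_ge ?_ ?_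
  · intro d hd
    exact ⟨hd.1, Subgroup.mem_centralizer_singleton_iff.2
      (comm_of_comm_t hS hs hr h hd.1 (Subgroup.mem_centralizer_singleton_iff.1 hd.2)).2⟩
  · have h1 := card_twoStab hS
    rw [card_twoStab_orbit hS hs, card_inverted hS, mul_comm] at h1
    have hpos : 0 < Nat.card (Cfsg.involutionsIn (stabilizer G a : Set G)) :=
      Nat.card_pos_iff.2 ⟨⟨⟨s, hs⟩⟩, inferInstance⟩
    exact (Nat.eq_of_mul_eq_mul_right hpos h1).le

end

end Cfsg.Agent.RankOne
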