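import Cfsg.Agent.Lib.RankOne.Basic

/-!
Fixed points of subsets of the two-point stabiliser in a split rank one set-up, fusion,
fixed-point-freeness of the inverted elements, and the multiplication functions.
-/

set_option autoImplicit false

namespace Cfsg.Agent.RankOne

open MulAction

variable {G Ω : Type*} [Group G] [MulAction G Ω] {a : Ω} {t : G} {Q : Subgroup G}

/-- `b` is fixed by every element of `X`. -/
def Fixes (X : Set G) (b : Ω) : Prop := ∀ x ∈ X, x • b = b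

lemma Fixes.smul {X : Set G} {b : Ω} (hb : Fixes X b) {g : G}
    (hg : g ∈ Subgroup.centralizer X) : Fixes X (g • b) := fun x hx => by
  rw [← mul_smul, Subgroup.mem_centralizer_iff.1 hg x hx, mul_smul, hb x hx]

section
variable (hS : Cfsg.IsRankOneSetup G Ω a t Q)
include hS

lemma Q_comm_of_fixes {X : Set G} (hXa : Fixes X a) {b c : Ω} (hb : b ≠ a) (hXb : Fixes X b)
    (hXc : Fixes X c) {q : G} (hq : q ∈ Q) (hqb : q • b = c) : q ∈ Subgroup.centralizer X := by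
  rw [Subgroup.mem_centralizer_iff]
  intro x hx
  have e : x * q * x⁻¹ = q := by
    refine regular_unique hS hb (hS.conj_mem x (hXa x hx) q hq) hq ?_
    have : x⁻¹ • b = b := by rw [inv_smul_eq_iff, hXb x hx]
    rw [mul_smul, mul_smul, this, hqb, hXc x hx]
  calc x * q = x * q * x⁻¹ * x := by group
    _ = q * x := by rw [e]

/-- For a fixed point `c` of `X`, `C(X)_c` is transitive on the other fixed points. -/
lemma cent_transitive_fix {X : Set G} {c p p' : Ω} (hc : Fixes X c) (hp : Fixes X p)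
    (hp' : Fixes X p') (hpc : p ≠ c) (hp'c : p' ≠ c) :
    ∃ g ∈ Subgroup.centralizer X, g • c = c ∧ g • p = p' := by
  obtain ⟨g₀, h1, h2⟩ := exists_smul_pair hS hpc.symm (ta_ne hS).symm
  set X' : Set G := (fun x => g₀ * x * g₀⁻¹) '' X with hX'
  have hf : ∀ b : Ω, Fixes X b → Fixes X' (g₀ • b) := by
    rintro b hb _ ⟨x, hx, rfl⟩
    rw [mul_smul, inv_smul_smul, mul_smul, hb x hx]
  have hp'a : g₀ • p' ≠ a := fun e => hp'c (smul_left_cancel g₀ (e.trans h1.symm))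
  obtain ⟨q, hq, hqp⟩ := regular hS (ta_ne hS) hp'a
  have hqX : q ∈ Subgroup.centralizer X' :=
    Q_comm_of_fixes hS (h1 ▸ hf c hc) (ta_ne hS) (h2 ▸ hf p hp) (hf p' hp') hq hqp
  refine ⟨g₀⁻¹ * q * g₀, ?_, ?_, ?_⟩
  · rw [Subgroup.mem_centralizer_iff]
    intro x hx
    have h := Subgroup.mem_centralizer_iff.1 hqX _ ⟨x, hx, rfl⟩
    calc x * (g₀⁻¹ * q * g₀) = g₀⁻¹ * (g₀ * x * g₀⁻¹ * q) * g₀ := by group
      _ = _ := by rw [h]; group
  · rw [mul_smul, mul_smul, h1, Q_fix_a hS hq, inv_smul_eq_iff, h1]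
  · rw [mul_smul, mul_smul, h2, hqp, inv_smul_smul]

/-- `X` fixes at least three points. -/
lemma cent_two_transitive {X : Set G}
    (h3 : ∃ b c d : Ω, b ≠ c ∧ b ≠ d ∧ c ≠ d ∧ Fixes X b ∧ Fixes X c ∧ Fixes X d)
    {b₁ b₂ c₁ c₂ : Ω} (hb₁ : Fixes X b₁) (hb₂ : Fixes X b₂) (hc₁ : Fixes X c₁)
    (hc₂ : Fixes X c₂) (hb : b₁ ≠ b₂) (hc : c₁ ≠ c₂) :
    ∃ g ∈ Subgroup.centralizer X, g • b₁ = c₁ ∧ g • b₂ = c₂ := by
  obtain ⟨g₁, hg₁, h1⟩ : ∃ g ∈ Subgroup.centralizer X, g • b₁ = c₁ := by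
    obtain ⟨p, q, r, hpq, hpr, hqr, hp, hq, hr⟩ := h3
    obtain ⟨e, he, he1, he2⟩ : ∃ e, Fixes X e ∧ e ≠ b₁ ∧ e ≠ c₁ := by
      by_cases hp1 : p = b₁ ∨ p = c₁
      · by_cases hq1 : q = b₁ ∨ q = c₁
        · refine ⟨r, hr, ?_, ?_⟩ <;>
          · rintro rfl
            rcases hp1 with hp1 | hp1 <;> rcases hq1 with hq1 | hq1 <;>
              simp_all
        · push Not at hq1; exact ⟨q, hq, hq1.1, hq1.2⟩
      · push Not at hp1; exact ⟨p, hp, hp1.1, hp1.2⟩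
    obtain ⟨g, hg, -, hgb⟩ := cent_transitive_fix hS he hb₁ hc₁ he1.symm he2.symm
    exact ⟨g, hg, hgb⟩
  have hne : g₁ • b₂ ≠ c₁ := fun e => hb (smul_left_cancel g₁ (h1.trans e.symm))
  obtain ⟨g₂, hg₂, h3', h4⟩ := cent_transitive_fix hS hc₁ (hb₂.smul hg₁) hc₂ hne hc.symm
  exact ⟨g₂ * g₁, mul_mem hg₂ hg₁, by rw [mul_smul, h1, h3'], by rw [mul_smul, h4]⟩

/-- If `X` fixes at least three points, an involution centralising `X` swaps any two of them. -/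
lemma cent_swap [Finite G] {X : Set G}
    (h3 : ∃ b c d : Ω, b ≠ c ∧ b ≠ d ∧ c ≠ d ∧ Fixes X b ∧ Fixes X c ∧ Fixes X d)
    {p q : Ω} (hp : Fixes X p) (hq : Fixes X q) (hpq : p ≠ q) :
    ∃ u ∈ Subgroup.centralizer X, IsInv u ∧ u • p = q := by
  obtain ⟨g, hg, h1, h2⟩ := cent_two_transitive hS h3 hp hq hq hp hpq hpq.symm
  set o := orderOf (g * g) with ho
  have hodd : Odd o := by
    obtain ⟨g₀, hg1, hg2⟩ := exists_smul_pair hS hpq (ta_ne hS).symm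
    have hp' : (g * g) • p = p := by rw [mul_smul, h1, h2]
    have hq' : (g * g) • q = q := by rw [mul_smul, h2, h1]
    have hmem : g₀ * (g * g) * g₀⁻¹ ∈ twoStab G a t := by
      refine Subgroup.mem_inf.2 ⟨?_, ?_⟩ <;> rw [mem_stabilizer_iff, mul_smul, mul_smul]
      · rw [← hg1, inv_smul_smul, hp']
      · rw [← hg2, inv_smul_smul, hq']
    have := odd_orderOf_of_mem hS.odd_card hmem
    rwa [show g₀ * (g * g) * g₀⁻¹ = MulAut.conj g₀ (g * g) from rfl, MulEquiv.orderOf_eq] at this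
  have hu2 : g ^ o * g ^ o = 1 := by
    rw [← pow_add, ← two_mul, pow_mul, pow_two, ho, pow_orderOf_eq_one]
  have hswap : (g ^ o) • p = q := by
    obtain ⟨m, hm⟩ := hodd
    rw [hm, pow_succ', pow_mul, pow_two, mul_smul]
    have : ((g * g) ^ m) • p = p := by
      have hp' : g * g ∈ stabilizer G p := by rw [mem_stabilizer_iff, mul_smul, h1, h2]
      exact pow_mem hp' m
    rw [this, h1]
  exact ⟨g ^ o, pow_mem hg o, ⟨fun e => hpq (by rw [e, one_smul] at hswap; exact hswap), hu2⟩,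
    hswap⟩

lemma fixes_twoStab {X : Set G} (hX : X ⊆ (twoStab G a t : Set G)) :
    Fixes X a ∧ Fixes X (t • a) :=
  ⟨fun _ hx => (Subgroup.mem_inf.1 (hX hx)).1, fun _ hx => (Subgroup.mem_inf.1 (hX hx)).2⟩

lemma conj_into_centralizer [Finite G] {X : Set G} (hX : X ⊆ (twoStab G a t : Set G))
    (h3 : ∃ b c d : Ω, b ≠ c ∧ b ≠ d ∧ c ≠ d ∧ Fixes X b ∧ Fixes X c ∧ Fixes X d) :
    ∃ k ∈ twoStab G a t, ∀ x ∈ X, (k * x * k⁻¹) * t = t * (k * x * k⁻¹) := by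
  obtain ⟨ha, hb⟩ := fixes_twoStab hS hX
  obtain ⟨u, hu, hui, hua⟩ := cent_swap hS h3 ha hb (ta_ne hS).symm
  obtain ⟨w, -, hw1, hw2, hw3⟩ :=
    swap_conj hS hui (t_isInv hS) (p := a) (by rw [hua]; exact ta_ne hS) hua.symm
  rw [hua] at hw2
  refine ⟨w, Subgroup.mem_inf.2 ⟨hw1, hw2⟩, fun x hx => ?_⟩
  have hc := Subgroup.mem_centralizer_iff.1 hu x hx
  calc w * x * w⁻¹ * t = w * x * w⁻¹ * (w * u * w⁻¹) := by rw [hw3]
    _ = w * (x * u) * w⁻¹ := by group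
    _ = w * (u * x) * w⁻¹ := by rw [hc]
    _ = (w * u * w⁻¹) * (w * x * w⁻¹) := by group
    _ = _ := by rw [hw3]

/-- An element of `D` inverted by `t` and fixing three points is trivial. -/
lemma inverted_eq_one_of_fix [Finite G] {x : G} (hx : x ∈ Cfsg.invertedBy (twoStab G a t) t)
    {b : Ω} (hba : b ≠ a) (hbb : b ≠ t • a) (hb : x • b = b) : x = 1 := by
  have hX : ({x} : Set G) ⊆ (twoStab G a t : Set G) := Set.singleton_subset_iff.2 hx.1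
  obtain ⟨ha, hta⟩ := fixes_twoStab hS hX
  obtain ⟨d, hd, hdx⟩ := conj_into_centralizer hS hX
    ⟨a, t • a, b, (ta_ne hS).symm, hba.symm, hbb.symm, ha, hta, fun y hy => by
      rw [Set.mem_singleton_iff.1 hy]; exact hb⟩
  have hc := hdx x rfl
  set x' := d * x * d⁻¹ with hx'
  set m := t * (d * t * d⁻¹) with hm
  have hmD : m ∈ twoStab G a t := by
    have h1 : m = (t * d * t⁻¹) * d⁻¹ := by rw [hm, t_inv hS]; group
    rw [h1]; exact mul_mem (conj_t_twoStab hS hd) (inv_mem hd)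
  have hx'D : x' ∈ twoStab G a t := mul_mem (mul_mem hd hx.1) (inv_mem hd)
  have h1 : (d * t * d⁻¹) * x' * (d * t * d⁻¹)⁻¹ = x'⁻¹ := by
    rw [hx']
    calc (d * t * d⁻¹) * (d * x * d⁻¹) * (d * t * d⁻¹)⁻¹ = d * (t * x * t⁻¹) * d⁻¹ := by group
      _ = _ := by rw [hx.2]; group
  have h2 : m * x' * m⁻¹ = x'⁻¹ := by
    calc m * x' * m⁻¹ = t * ((d * t * d⁻¹) * x' * (d * t * d⁻¹)⁻¹) * t⁻¹ := by rw [hm]; group
      _ = (t * x' * t⁻¹)⁻¹ := by rw [h1]; group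
      _ = x'⁻¹ := by rw [← hc]; group
  have := eq_one_of_conj_eq_inv (odd_orderOf_of_mem hS.odd_card hmD)
    (odd_orderOf_of_mem hS.odd_card hx'D) h2
  calc x = d⁻¹ * x' * d := by rw [hx']; group
    _ = 1 := by rw [this]; group

/-- `k ↦ k⁻¹ s k` is injective on `K`, for every involution `s` fixing `a`. -/
lemma inverted_conj_inj [Finite G] {s k l : G}
    (hs : s ∈ Cfsg.involutionsIn (stabilizer G a : Set G))
    (hk : k ∈ Cfsg.invertedBy (twoStab G a t) t) (hl : l ∈ Cfsg.invertedBy (twoStab G a t) t)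
    (h : k⁻¹ * s * k = l⁻¹ * s * l) : k = l := by
  obtain ⟨s₀, r, hs₀, hr, heq⟩ := structure_exists hS
  obtain ⟨d, hd, hds⟩ := twoStab_transitive hS ⟨hs₀.2.1, hs₀.2.2⟩ hs₀.1 ⟨hs.2.1, hs.2.2⟩ hs.1
  set w := l * k⁻¹ with hw
  have hwD : w ∈ twoStab G a t := mul_mem hl.1 (inv_mem hk.1)
  have hws : w * s = s * w := by
    calc w * s = l * (k⁻¹ * s * k) * k⁻¹ := by rw [hw]; group
      _ = _ := by rw [h, hw]; group
  have hw₀ : d⁻¹ * w * d ∈ twoStab G a t ⊓ Subgroup.centralizer {t} := by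
    rw [centralizer_t_eq hS hs₀ hr heq]
    refine Subgroup.mem_inf.2 ⟨mul_mem (mul_mem (inv_mem hd) hwD) hd, Subgroup.mem_centralizer_singleton_iff.2 ?_⟩
    rw [← hds] at hws
    calc d⁻¹ * w * d * s₀ = d⁻¹ * (w * (d * s₀ * d⁻¹)) * d := by group
      _ = _ := by rw [hws]; group
  have hwt := Subgroup.mem_centralizer_singleton_iff.1 hw₀.2
  set m := t * (d * t * d⁻¹) with hm
  have hmD : m ∈ twoStab G a t := by
    have h1 : m = (t * d * t⁻¹) * d⁻¹ := by rw [hm, t_inv hS]; group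
    rw [h1]; exact mul_mem (conj_t_twoStab hS hd) (inv_mem hd)
  have hmw : m * w * m⁻¹ = t * w * t⁻¹ := by
    calc m * w * m⁻¹ = t * (d * (t * (d⁻¹ * w * d) * t⁻¹) * d⁻¹) * t⁻¹ := by rw [hm]; group
      _ = _ := by rw [← hwt]; group
  have hkw : t * w * t⁻¹ = l⁻¹ * k := by
    calc t * (l * k⁻¹) * t⁻¹ = (t * l * t⁻¹) * (t * k * t⁻¹)⁻¹ := by group
      _ = _ := by rw [hl.2, hk.2, inv_inv]
  have h2 : (k * m) * w * (k * m)⁻¹ = w⁻¹ := by
    calc (k * m) * w * (k * m)⁻¹ = k * (m * w * m⁻¹) * k⁻¹ := by group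
      _ = k * l⁻¹ := by rw [hmw, hkw]; group
      _ = _ := by rw [hw]; group
  have := eq_one_of_conj_eq_inv (odd_orderOf_of_mem hS.odd_card (mul_mem hk.1 hmD))
    (odd_orderOf_of_mem hS.odd_card hwD) h2
  rw [hw, mul_inv_eq_one] at this
  exact this.symm

lemma inverted_transitive [Finite G] {s s' : G}
    (hs : s ∈ Cfsg.involutionsIn (stabilizer G a : Set G))
    (hs' : s' ∈ Cfsg.involutionsIn (stabilizer G a : Set G)) :
    ∃ k ∈ Cfsg.invertedBy (twoStab G a t) t, k⁻¹ * s * k = s' := by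
  let φ : Cfsg.invertedBy (twoStab G a t) t → Cfsg.involutionsIn (stabilizer G a : Set G) :=
    fun k => ⟨(k : G)⁻¹ * s * k,
      mul_mem (mul_mem (inv_mem k.2.1.1) hs.1) k.2.1.1,
      by simpa using (IsInv.conj (⟨hs.2.1, hs.2.2⟩ : IsInv s) (k : G)⁻¹).1,
      by simpa using (IsInv.conj (⟨hs.2.1, hs.2.2⟩ : IsInv s) (k : G)⁻¹).2⟩
  have hinj : Function.Injective φ := fun k l h =>
    Subtype.ext (inverted_conj_inj hS hs k.2 l.2 (congrArg Subtype.val h))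
  obtain ⟨k, hk⟩ := (hinj.bijective_of_nat_card_le (card_inverted hS).ge).2 ⟨s', hs'⟩
  exact ⟨k, k.2, congrArg Subtype.val hk⟩

/-- Commuting distinct involutions give two involutions fixing `a`. -/
lemma exists_two_invol [Finite G]
    (h2 : ∃ x y : G, x ≠ 1 ∧ y ≠ 1 ∧ x ≠ y ∧ x * x = 1 ∧ y * y = 1 ∧ x * y = y * x) :
    ∃ s ∈ Cfsg.involutionsIn (stabilizer G a : Set G),
      ∃ s' ∈ Cfsg.involutionsIn (stabilizer G a : Set G), s ≠ s' ∧ s * s' = s' * s := by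
  obtain ⟨x, y, hx, hy, hxy, hxx, hyy, hc⟩ := h2
  obtain ⟨c, hxc⟩ := exists_fixed hS (⟨hx, hxx⟩ : IsInv x)
  have hyc : y • c = c := comm_fix hS ⟨hx, hxx⟩ hxc hc
  haveI := pretransitive hS
  obtain ⟨g, hg⟩ := exists_smul_eq G c a
  have hgc : g⁻¹ • a = c := by rw [inv_smul_eq_iff, hg]
  refine ⟨g * x * g⁻¹, ⟨?_, (IsInv.conj ⟨hx, hxx⟩ g).1, (IsInv.conj ⟨hx, hxx⟩ g).2⟩,
    g * y * g⁻¹, ⟨?_, (IsInv.conj ⟨hy, hyy⟩ g).1, (IsInv.conj ⟨hy, hyy⟩ g).2⟩, ?_, ?_⟩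
  · show (g * x * g⁻¹) • a = a
    rw [mul_smul, mul_smul, hgc, hxc, hg]
  · show (g * y * g⁻¹) • a = a
    rw [mul_smul, mul_smul, hgc, hyc, hg]
  · exact fun h => hxy (mul_left_cancel (mul_right_cancel h))
  · calc g * x * g⁻¹ * (g * y * g⁻¹) = g * (x * y) * g⁻¹ := by group
      _ = _ := by rw [hc]; group

/-! ### Multiplication functions -/

lemma gtf_unique {g h f g' h' f' : G} (hg : g ∈ Q) (hh : h ∈ twoStab G a t) (hf : f ∈ Q)
    (hg' : g' ∈ Q) (hh' : h' ∈ twoStab G a t) (hf' : f' ∈ Q)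
    (e : g * h * t * f = g' * h' * t * f') : g = g' ∧ h = h' ∧ f = f' := by
  have hga : g = g' := by
    refine regular_unique hS (ta_ne hS) hg hg' ?_
    have := congrArg (fun z : G => z • a) e
    simp only [mul_smul, Q_fix_a hS hf, Q_fix_a hS hf'] at this
    rwa [(Subgroup.mem_inf.1 hh).2, (Subgroup.mem_inf.1 hh').2] at this
  subst hga
  simp only [mul_assoc] at e
  have e' := mul_left_cancel e
  have hff : f * f'⁻¹ = t * (h⁻¹ * h') * t⁻¹ := by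
    calc f * f'⁻¹ = t⁻¹ * h⁻¹ * (h * (t * f)) * f'⁻¹ := by group
      _ = t * (h⁻¹ * h') * t := by rw [e', t_inv hS]; group
      _ = _ := by rw [t_inv hS]
  have h1 : f * f'⁻¹ ∈ Q ⊓ stabilizer G (t • a) :=
    Subgroup.mem_inf.2 ⟨mul_mem hf (inv_mem hf'),
      by rw [hff]; exact (conj_t_twoStab hS (mul_mem (inv_mem hh) hh')).2⟩
  rw [hS.inf_eq_bot, Subgroup.mem_bot, mul_inv_eq_one] at h1
  subst h1
  exact ⟨rfl, mul_right_cancel e', rfl⟩

lemma tmt_mem {d : G} (hd : d ∈ twoStab G a t) : t * d * t ∈ twoStab G a t := by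
  have := conj_t_twoStab hS hd; rwa [t_inv hS] at this

lemma mult_inv {x g h f g₁ h₁ f₁ : G} (hg : g ∈ Q) (hh : h ∈ twoStab G a t) (hf : f ∈ Q)
    (heq : t * x * t = g * h * t * f) (hg₁ : g₁ ∈ Q) (hh₁ : h₁ ∈ twoStab G a t) (hf₁ : f₁ ∈ Q)
    (heq₁ : t * x⁻¹ * t = g₁ * h₁ * t * f₁) : g₁ = f⁻¹ ∧ f₁ = g⁻¹ ∧ h₁ = t * h⁻¹ * t := by
  have e : g₁ * h₁ * t * f₁ = f⁻¹ * (t * h⁻¹ * t) * t * g⁻¹ := by
    rw [← heq₁]
    calc t * x⁻¹ * t = (t * x * t)⁻¹ := by rw [mul_inv_rev, mul_inv_rev, t_inv hS]; group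
      _ = f⁻¹ * (t * h⁻¹) * 1 * g⁻¹ := by rw [heq]; simp only [mul_inv_rev, t_inv hS]; group
      _ = _ := by rw [← hS.mul_self]; group
  obtain ⟨h1, h2, h3⟩ :=
    gtf_unique hS hg₁ hh₁ hf₁ (inv_mem hf) (tmt_mem hS (inv_mem hh)) (inv_mem hg) e
  exact ⟨h1, h3, h2⟩

lemma mult_f {x g h f g₂ h₂ f₂ : G} (hx : x ∈ Q) (hg : g ∈ Q) (hh : h ∈ twoStab G a t)
    (heq : t * x * t = g * h * t * f) (hg₂ : g₂ ∈ Q) (hh₂ : h₂ ∈ twoStab G a t) (hf₂ : f₂ ∈ Q)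
    (heq₂ : t * f * t = g₂ * h₂ * t * f₂) : g₂ = h⁻¹ * g⁻¹ * h ∧ f₂ = x ∧ h₂ = h⁻¹ := by
  have e : g₂ * h₂ * t * f₂ = (h⁻¹ * g⁻¹ * h) * h⁻¹ * t * x := by
    rw [← heq₂]
    calc t * f * t = (h⁻¹ * g⁻¹ * (g * h * t * f)) * t := by group
      _ = h⁻¹ * g⁻¹ * (t * x) * (t * t) := by rw [← heq]; group
      _ = _ := by rw [hS.mul_self]; group
  have hgm : h⁻¹ * g⁻¹ * h ∈ Q := by
    simpa using hS.conj_mem h⁻¹ (inv_mem (Subgroup.mem_inf.1 hh).1) g⁻¹ (inv_mem hg)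
  obtain ⟨h1, h2, h3⟩ := gtf_unique hS hg₂ hh₂ hf₂ hgm (inv_mem hh) hx e
  exact ⟨h1, h3, h2⟩

lemma mult_conj {x g h f c g₃ h₃ f₃ : G} (hg : g ∈ Q) (hh : h ∈ twoStab G a t) (hf : f ∈ Q)
    (heq : t * x * t = g * h * t * f) (hc : c ∈ twoStab G a t) (hg₃ : g₃ ∈ Q)
    (hh₃ : h₃ ∈ twoStab G a t) (hf₃ : f₃ ∈ Q) (heq₃ : t * (c⁻¹ * x * c) * t = g₃ * h₃ * t * f₃) :
    g₃ = (t * c * t)⁻¹ * g * (t * c * t) ∧ f₃ = (t * c * t)⁻¹ * f * (t * c * t) ∧
      h₃ = (t * c * t)⁻¹ * h * c := by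
  set e := t * c * t with hedef
  have he : e ∈ twoStab G a t := tmt_mem hS hc
  have hei : e⁻¹ = t * c⁻¹ * t := by rw [hedef, mul_inv_rev, mul_inv_rev, t_inv hS]; group
  have heq' : g₃ * h₃ * t * f₃ = (e⁻¹ * g * e) * (e⁻¹ * h * c) * t * (e⁻¹ * f * e) := by
    rw [← heq₃]
    calc t * (c⁻¹ * x * c) * t = (t * c⁻¹ * t) * (t⁻¹ * x * t⁻¹) * (t * c * t) := by group
      _ = e⁻¹ * (t * x * t) * e := by rw [hei, t_inv hS]
      _ = (e⁻¹ * g * e) * (e⁻¹ * h * c) * (c⁻¹ * t) * f * e := by rw [heq]; group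
      _ = (e⁻¹ * g * e) * (e⁻¹ * h * c) * (t * e⁻¹) * f * e := by
        have : c⁻¹ * t = t * e⁻¹ := by
          rw [hei]; calc c⁻¹ * t = (t * t) * c⁻¹ * t := by rw [hS.mul_self, one_mul]
            _ = _ := by group
        rw [this]
      _ = _ := by group
  have conjQ : ∀ y ∈ Q, e⁻¹ * y * e ∈ Q := fun y hy => by
    simpa using hS.conj_mem e⁻¹ (inv_mem (Subgroup.mem_inf.1 he).1) y hy
  obtain ⟨h1, h2, h3⟩ := gtf_unique hS hg₃ hh₃ hf₃ (conjQ g hg)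
    (mul_mem (mul_mem (inv_mem he) hh) hc) (conjQ f hf) heq'
  exact ⟨h1, h3, h2⟩

lemma mult_mul_ne {x y gx hx fx gy hy fy : G} (hxQ : x ∈ Q) (hyQ : y ∈ Q) (hxy : x * y ≠ 1)
    (hgx : gx ∈ Q) (hhx : hx ∈ twoStab G a t) (ex : t * x * t = gx * hx * t * fx)
    (hhy : hy ∈ twoStab G a t) (hfy : fy ∈ Q) (ey : t * y * t = gy * hy * t * fy) :
    fx * gy ≠ 1 := by
  intro h1
  apply hxy
  refine Q_fix_unique hS (mul_mem hxQ hyQ) (ta_ne hS) ?_
  have e : t * (x * y) * t = gx * hx * (t * hy * t) * fy := by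
    calc t * (x * y) * t = (t * x * t) * (t⁻¹ * y * t) := by group
      _ = (gx * hx * t * fx) * (gy * hy * t * fy) := by rw [t_inv hS, ex, ey]
      _ = gx * hx * t * (fx * gy) * hy * t * fy := by group
      _ = _ := by rw [h1]; group
  have h2 : (t * (x * y) * t) • a = a := by
    rw [e, mul_smul, mul_smul, mul_smul, Q_fix_a hS hfy, (Subgroup.mem_inf.1 (tmt_mem hS hhy)).1,
      (Subgroup.mem_inf.1 hhx).1, Q_fix_a hS hgx]
  rw [mul_smul, mul_smul] at h2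
  have := congrArg (fun z => t • z) h2
  simpa only [t_smul_ta hS, ← mul_smul t t, hS.mul_self, one_smul] using this

lemma mult_mul {x y gx hx fx gy hy fy gz hz fz g' h' f' : G}
    (hgx : gx ∈ Q) (hhx : hx ∈ twoStab G a t) (ex : t * x * t = gx * hx * t * fx)
    (hhy : hy ∈ twoStab G a t) (hfy : fy ∈ Q) (ey : t * y * t = gy * hy * t * fy)
    (hgz : gz ∈ Q) (hhz : hz ∈ twoStab G a t) (hfz : fz ∈ Q)
    (ez : t * (fx * gy) * t = gz * hz * t * fz)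
    (hg' : g' ∈ Q) (hh' : h' ∈ twoStab G a t) (hf' : f' ∈ Q)
    (e' : t * (x * y) * t = g' * h' * t * f') :
    g' = gx * (hx * gz * hx⁻¹) ∧ f' = (t * hy * t)⁻¹ * fz * (t * hy * t) * fy ∧
      h' = hx * hz * hy := by
  set e := t * hy * t with hedef
  have he : e ∈ twoStab G a t := tmt_mem hS hhy
  have hei : e⁻¹ = t * hy⁻¹ * t := by rw [hedef, mul_inv_rev, mul_inv_rev, t_inv hS]; group
  have heq : g' * h' * t * f' =
      (gx * (hx * gz * hx⁻¹)) * (hx * hz * hy) * t * (e⁻¹ * fz * e * fy) := by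
    rw [← e']
    calc t * (x * y) * t = (t * x * t) * (t⁻¹ * y * t) := by group
      _ = (gx * hx * t * fx) * (gy * hy * t * fy) := by rw [t_inv hS, ex, ey]
      _ = gx * hx * (t * (fx * gy) * t) * (t⁻¹ * hy * t) * fy := by group
      _ = gx * hx * (gz * hz * t * fz) * e * fy := by rw [ez, t_inv hS]
      _ = gx * (hx * gz * hx⁻¹) * (hx * hz) * t * fz * e * fy := by group
      _ = gx * (hx * gz * hx⁻¹) * (hx * hz * hy) * (t * e⁻¹) * fz * e * fy := by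
        have : t * e⁻¹ = hy⁻¹ * t := by
          rw [hei]; calc t * (t * hy⁻¹ * t) = (t * t) * hy⁻¹ * t := by group
            _ = _ := by rw [hS.mul_self, one_mul]
        rw [this]; group
      _ = _ := by group
  have hfm : e⁻¹ * fz * e * fy ∈ Q :=
    mul_mem (by simpa using hS.conj_mem e⁻¹ (inv_mem (Subgroup.mem_inf.1 he).1) fz hfz) hfy
  have hgm : gx * (hx * gz * hx⁻¹) ∈ Q :=
    mul_mem hgx (hS.conj_mem hx (Subgroup.mem_inf.1 hhx).1 gz hgz)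
  obtain ⟨h1, h2, h3⟩ := gtf_unique hS hg' hh' hf' hgm
    (mul_mem (mul_mem hhx hhz) hhy) hfm heq
  exact ⟨h1, h3, h2⟩

end

end Cfsg.Agent.RankOne
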