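import Mathlib

/-!
Finite fields of characteristic two: automorphisms span the additive endomorphisms, and
quadratic maps are combinations of products of two automorphisms.
-/

set_option autoImplicit false

namespace Cfsg.Agent.RankOne

variable {F : Type*} [Field F] [Fintype F] [CharP F 2]

lemma autLinearIndependent :
    LinearIndependent F (fun σ : F ≃+* F => ((σ : F →+* F) : F → F)) :=
  (linearIndependent_monoidHom F F).comp
    (fun σ : F ≃+* F => ((σ : F →+* F) : F →* F))
    (fun σ τ h => RingEquiv.ext fun x => DFunLike.congr_fun h x)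

/-- `c ↦ (x ↦ Σ c σ * σ x)`. -/
noncomputable def autSum [Fintype (F ≃+* F)] : ((F ≃+* F) → F) →+ (F →+ F) where
  toFun c := ∑ σ : F ≃+* F, (AddMonoidHom.mulLeft (c σ)).comp (σ : F →+* F).toAddMonoidHom
  map_zero' := by ext x; simp
  map_add' c d := by ext x; simp [add_mul, Finset.sum_add_distrib]

lemma autSum_apply [Fintype (F ≃+* F)] (c : (F ≃+* F) → F) (x : F) :
    autSum c x = ∑ σ : F ≃+* F, c σ * σ x := by simp [autSum]

lemma autSum_injective [Fintype (F ≃+* F)] :
    Function.Injective (autSum : ((F ≃+* F) → F) →+ (F →+ F)) := by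
  refine (injective_iff_map_eq_zero _).2 fun c hc => funext fun σ => ?_
  refine Fintype.linearIndependent_iff.1 autLinearIndependent c ?_ σ
  funext x
  have := DFunLike.congr_fun hc x
  rw [autSum_apply] at this
  simpa using this

lemma card_aut [Fintype (F ≃+* F)] [Algebra (ZMod 2) F] :
    Nat.card (F ≃+* F) = Module.finrank (ZMod 2) F := by
  let e : (F ≃+* F) ≃ (F ≃ₐ[ZMod 2] F) :=
    { toFun := fun σ => AlgEquiv.ofRingEquiv (f := σ) (fun r =>
        RingHom.congr_fun (RingHom.ext_zmod ((σ : F →+* F).comp (algebraMap (ZMod 2) F))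
          (algebraMap (ZMod 2) F)) r)
      invFun := fun σ => σ.toRingEquiv
      left_inv := fun σ => by ext x; rfl
      right_inv := fun σ => by ext x; rfl }
  rw [Nat.card_congr e, IsGalois.card_aut_eq_finrank]

lemma autSum_surjective [Fintype (F ≃+* F)] :
    Function.Surjective (autSum : ((F ≃+* F) → F) →+ (F →+ F)) := by
  classical
  letI : Algebra (ZMod 2) F := ZMod.algebra F 2
  let b := Module.finBasis (ZMod 2) F
  let e : (F →+ F) ≃ (Fin (Module.finrank (ZMod 2) F) → F) :=
    (({ toFun := fun f => f.toZModLinearMap 2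
        invFun := fun f => f.toAddMonoidHom
        left_inv := fun f => by ext x; rfl
        right_inv := fun f => by ext x; rfl } : (F →+ F) ≃ (F →ₗ[ZMod 2] F))).trans
      (b.constr (ZMod 2)).toEquiv.symm
  haveI : Finite (F →+ F) := Finite.of_equiv _ e.symm
  refine (autSum_injective.bijective_of_nat_card_le ?_).2
  rw [Nat.card_congr e, Nat.card_fun, Nat.card_fun, Nat.card_fin, card_aut]

/-- `x ↦ σ x * τ x`. -/
def prodFun (p : (F ≃+* F) × (F ≃+* F)) : F → F := fun x => p.1 x * p.2 x

omit [Fintype F] [CharP F 2] in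
lemma prodFun_apply (p : (F ≃+* F) × (F ≃+* F)) (x : F) : prodFun p x = p.1 x * p.2 x := rfl

lemma mul_mem_span [Fintype (F ≃+* F)] (f g : F →+ F) :
    (fun x => f x * g x) ∈ Submodule.span F (Set.range (prodFun (F := F))) := by
  obtain ⟨c, rfl⟩ := autSum_surjective f
  obtain ⟨d, rfl⟩ := autSum_surjective g
  have : (fun x => autSum c x * autSum d x) =
      ∑ σ : F ≃+* F, ∑ τ : F ≃+* F, (c σ * d τ) • prodFun (σ, τ) := by
    funext x
    rw [autSum_apply, autSum_apply, Finset.sum_mul_sum]
    simp only [Finset.sum_apply, Pi.smul_apply, smul_eq_mul, prodFun_apply]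
    exact Finset.sum_congr rfl fun σ _ => Finset.sum_congr rfl fun τ _ => by ring
  rw [this]
  exact Submodule.sum_mem _ fun σ _ => Submodule.sum_mem _ fun τ _ =>
    Submodule.smul_mem _ _ (Submodule.subset_span ⟨(σ, τ), rfl⟩)

theorem quadratic_mem_span [Fintype (F ≃+* F)] (q : F → F)
    (hq : ∀ x y z : F, q (x + y + z) + q (x + y) + q (x + z) + q (y + z) + q x + q y + q z = 0) :
    q ∈ Submodule.span F (Set.range (prodFun (F := F))) := by
  classical
  letI : Algebra (ZMod 2) F := ZMod.algebra F 2
  have h2 : ∀ z : F, z + z = 0 := CharTwo.add_self_eq_zero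
  have h0 : q 0 = 0 := by
    have := hq 0 0 0
    simp only [add_zero] at this
    have h4 : q 0 + q 0 = 0 := h2 _
    simpa [h4, add_assoc] using this
  let β : F → F → F := fun x y => q (x + y) + q x + q y
  have hβadd : ∀ x y z, β x (y + z) = β x y + β x z := by
    intro x y z
    have h := hq x y z
    have e := CharTwo.add_eq_zero.1 h
    simp only [β, ← add_assoc] at *
    linear_combination h - h2 (q (x + y)) - h2 (q (x + z)) - h2 (q y) - h2 (q z) - h2 (q x)
  have hβ0 : ∀ x, β x 0 = 0 := fun x => by simp [β, h0, h2]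
  let n := Module.finrank (ZMod 2) F
  let b : Module.Basis (Fin n) (ZMod 2) F := Module.finBasis (ZMod 2) F
  let l : Fin n → F →+ F := fun i => (algebraMap (ZMod 2) F).toAddMonoidHom.comp
    (b.coord i).toAddMonoidHom
  have hl01 : ∀ i x, l i x = 0 ∨ l i x = 1 := fun i x => by
    have h01 : ∀ z : ZMod 2, z = 0 ∨ z = 1 := by decide
    rcases h01 (b.coord i x) with h | h <;> simp [l, h]
  have hsum : ∀ x, ∑ i, l i x * b i = x := fun x => by
    conv_rhs => rw [← b.sum_repr x]
    simp [l, Algebra.smul_def]
  suffices H : ∀ s : Finset (Fin n), (fun x => q (∑ i ∈ s, l i x * b i)) ∈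
      Submodule.span F (Set.range (prodFun (F := F))) by
    have := H Finset.univ
    simpa only [hsum] using this
  intro s
  induction s using Finset.induction_on with
  | empty =>
    have : (fun x => q (∑ i ∈ (∅ : Finset (Fin n)), l i x * b i)) = 0 := by
      funext x; simp [h0]
    rw [this]; exact Submodule.zero_mem _
  | @insert k s hk ih =>
    have hβsum : ∀ (x : F) (t : Finset (Fin n)) (f : Fin n → F),
        β x (∑ i ∈ t, f i) = ∑ i ∈ t, β x (f i) := by
      intro x t f
      induction t using Finset.induction_on with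
      | empty => simp [hβ0]
      | @insert j t hj ih' => rw [Finset.sum_insert hj, Finset.sum_insert hj, hβadd, ih']
    have : (fun x => q (∑ i ∈ insert k s, l i x * b i)) =
        (q (b k)) • (fun x => l k x * l k x) + (fun x => q (∑ i ∈ s, l i x * b i)) +
          ∑ i ∈ s, (β (b k) (b i)) • (fun x => l k x * l i x) := by
      funext x
      have e1 : q (l k x * b k + ∑ i ∈ s, l i x * b i) = q (l k x * b k) +
          q (∑ i ∈ s, l i x * b i) + β (l k x * b k) (∑ i ∈ s, l i x * b i) := by
        simp only [β]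
        linear_combination -h2 (q (l k x * b k)) - h2 (q (∑ i ∈ s, l i x * b i))
      rw [Finset.sum_insert hk, e1, hβsum]
      simp only [Pi.add_apply, Pi.smul_apply, Finset.sum_apply, smul_eq_mul]
      refine congrArg₂ (· + ·) (congrArg₂ (· + ·) ?_ rfl) (Finset.sum_congr rfl fun i _ => ?_)
      · rcases hl01 k x with h | h <;> simp [h, h0]
      · rcases hl01 k x with h | h <;> rcases hl01 i x with h' | h' <;> simp [h, h', β, h0, h2]
    rw [this]
    exact Submodule.add_mem _ (Submodule.add_mem _ (Submodule.smul_mem _ _ (mul_mem_span _ _)) ih)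
      (Submodule.sum_mem _ fun i _ => Submodule.smul_mem _ _ (mul_mem_span _ _))

end Cfsg.Agent.RankOne
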