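import Cfsg.Agent.Lib.RankOne.AbelianKernel

/-!
In an abelian Zassenhaus case the regular normal subgroup has exponent two.
-/

set_option autoImplicit false

namespace Cfsg.Agent.RankOne

open MulAction Finset
open scoped ComplexConjugate

variable {G Ω : Type*} [Group G] [MulAction G Ω] {a : Ω} {t : G} {Q : Subgroup G}

lemma three_le_of_odd {k : ℕ} (h : Odd k) (h1 : 1 < k) : 3 ≤ k := by
  obtain ⟨m, rfl⟩ := h; omega

/-- The final numerical contradiction. -/
lemma numeric_contra {n k c : ℝ} (hk : 3 ≤ k) (hn : (k + 1) ^ 2 ≤ n)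
    (h1 : (n - 1) * c ^ 2 - 2 * c * k ≤ k ^ 2 - k)
    (h2 : (n ^ 2 - 1) * (k - 1 + 2 * c) ^ 2 ≤ n * (k - 1) ^ 2) : False := by
  have hn16 : (16 : ℝ) ≤ n := le_trans (by nlinarith) hn
  have h3 : 9 * (k - 1 + 2 * c) ^ 2 ≤ (k - 1) ^ 2 := by
    have hb : 9 * n ≤ n ^ 2 - 1 := by nlinarith
    have hc : (9 * n) * (k - 1 + 2 * c) ^ 2 ≤ n * (k - 1) ^ 2 :=
      le_trans (mul_le_mul_of_nonneg_right hb (sq_nonneg _)) h2
    nlinarith
  have h4 : 3 * c ≤ -(k - 1) := by nlinarith
  have h5 : (k - 1) ^ 2 ≤ 9 * c ^ 2 := by nlinarith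
  have h6 : (k + 2) * k * ((k - 1) ^ 2) ≤ 9 * ((n - 1) * c ^ 2) := by
    have : (k + 2) * k ≤ n - 1 := by nlinarith
    nlinarith [sq_nonneg (k - 1)]
  have h7 : (k + 2) * k * ((k - 1) ^ 2) + 6 * k * (k - 1) ≤ 9 * (k ^ 2 - k) := by nlinarith
  have h8 : 0 < k * (k - 1) := by nlinarith
  have h9 : ((k + 2) * (k - 1) + 6) * (k * (k - 1)) ≤ 9 * (k * (k - 1)) := by
    calc ((k + 2) * (k - 1) + 6) * (k * (k - 1)) =
        (k + 2) * k * ((k - 1) ^ 2) + 6 * k * (k - 1) := by ring
      _ ≤ 9 * (k ^ 2 - k) := h7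
      _ = 9 * (k * (k - 1)) := by ring
  have := le_of_mul_le_mul_right h9 h8
  nlinarith

section
variable (H : IsAbelianCase G Ω a t Q)
include H

lemma isInv_iff_Q {x : G} [Finite G] (hx : IsInv x) : x • a = a ↔ x ∈ Q :=
  ⟨invol_mem_Q H.setup hx, Q_fix_a H.setup⟩

/-- `D` corresponds to the involutions of `Q`. -/
lemma conjQ_invol_bij [Finite G] {s : Q} (hs : s ≠ 1) (hss : s * s = 1) :
    Function.Bijective (fun d : twoStab G a t => (⟨conjQ H d s, fun h => hs (by
        have := congrArg (fun z : Q => (d : G) * (z : G) * (d : G)⁻¹) h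
        simpa [mul_assoc] using this),
      by rw [← map_mul, hss, map_one]⟩ : {e : Q // e ≠ 1 ∧ e * e = 1})) := by
  have hcard : Nat.card {e : Q // e ≠ 1 ∧ e * e = 1} = Nat.card (twoStab G a t) := by
    rw [← card_invol H]
    refine Nat.card_congr (Equiv.ofBijective (fun e => ⟨(e : G), Q_fix_a H.setup e.1.2, ?_, ?_⟩)
      ⟨?_, ?_⟩)
    · exact fun h => e.2.1 (Subtype.ext h)
    · exact congrArg Subtype.val e.2.2
    · exact fun e e' h => Subtype.ext (Subtype.ext (congrArg (fun z => z.val) h))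
    · rintro ⟨x, hxa, hx1, hxx⟩
      exact ⟨⟨⟨x, invol_mem_Q H.setup ⟨hx1, hxx⟩ hxa⟩,
        fun h => hx1 (congrArg Subtype.val h), Subtype.ext hxx⟩, rfl⟩
  refine Function.Injective.bijective_of_nat_card_le (fun c d h => ?_) hcard.le
  exact conjQ_free H hs (congrArg Subtype.val h)

lemma card_sq_le [Finite G] {u : Q} (hu : u * u ≠ 1) :
    (Nat.card (twoStab G a t) + 1) ^ 2 ≤ Nat.card Q ∧
      ∃ y s : Q, y * y = s ∧ s ≠ 1 ∧ s * s = 1 := by
  haveI : Fact (Nat.Prime 2) := ⟨Nat.prime_two⟩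
  letI : CommGroup Q :=
    { (inferInstance : Group Q) with
      mul_comm := fun a b => Subtype.ext (H.comm a a.2 b b.2) }
  obtain ⟨j, hj⟩ := H.two_group u
  have hex : ∃ m, u ^ 2 ^ (m + 2) = 1 := by
    refine ⟨j, ?_⟩
    rw [pow_add, pow_mul, hj, one_pow]
  classical
  let m := Nat.find hex
  have hm : u ^ 2 ^ (m + 2) = 1 := Nat.find_spec hex
  have hm' : u ^ 2 ^ (m + 1) ≠ 1 := by
    intro h
    rcases Nat.eq_zero_or_pos m with h0 | h0
    · rw [h0] at h; exact hu (by simpa [pow_two] using h)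
    · exact Nat.find_min hex (m := m - 1) (by omega) (by
        rwa [show m - 1 + 2 = m + 1 by omega])
  set y := u ^ 2 ^ m with hy
  set s := u ^ 2 ^ (m + 1) with hs
  have hys : y * y = s := by rw [hy, hs, ← pow_add, pow_succ, Nat.mul_two]
  have hss : s * s = 1 := by
    rw [hs, ← pow_add, ← Nat.mul_two, ← pow_succ]; exact hm
  refine ⟨?_, y, s, hys, hm', hss⟩
  let f : Q →* Q := powMonoidHom 2
  have hker : Nat.card (twoStab G a t) + 1 = Nat.card f.ker := by
    classical
    haveI := Fintype.ofFinite Q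
    let e := Equiv.ofBijective _ (conjQ_invol_bij H (s := s) hm' hss)
    rw [Nat.card_congr (e.trans (Equiv.refl _))]
    have h1 : Nat.card f.ker = Nat.card (Option {e : Q // e ≠ 1 ∧ e * e = 1}) := by
      refine Nat.card_congr
        { toFun := fun x => if h : (x : Q) = 1 then none else
            some ⟨x, h, by have h2 := MonoidHom.mem_ker.1 x.2; rw [powMonoidHom_apply, pow_two] at h2; exact h2⟩
          invFun := fun o => o.elim 1 fun e => ⟨e.1, by simp [f, MonoidHom.mem_ker, pow_two, e.2.2]⟩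
          left_inv := fun x => by
            by_cases h : (x : Q) = 1
            · simp only [h, dite_true, Option.elim_none]; exact Subtype.ext h.symm
            · simp [h]
          right_inv := fun o => by
            cases o with
            | none => simp
            | some e => simp [e.2.1] }
    rw [h1, Finite.card_option]
  have hrange : f.ker ≤ f.range := by
    intro x hx
    by_cases h1 : x = 1
    · subst h1; exact one_mem _
    have hxx : x * x = 1 := by simpa [f, MonoidHom.mem_ker, pow_two] using hx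
    obtain ⟨d, hd⟩ := (conjQ_invol_bij H (s := s) hm' hss).2 ⟨x, h1, hxx⟩
    refine ⟨conjQ H d y, ?_⟩
    have : conjQ H d s = x := congrArg Subtype.val hd
    rw [← this, ← hys]
    simp [f, pow_two]
  have hprod : Nat.card f.ker * Nat.card f.range = Nat.card Q := by
    rw [← Subgroup.index_ker, Subgroup.card_mul_index]
  rw [hker, ← hprod, pow_two]
  exact Nat.mul_le_mul_left _ (Subgroup.card_le_of_le hrange)

end

section
variable (H : IsAbelianCase G Ω a t Q)
include H

open Classical in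
lemma sum_conjugates [Fintype G] {s : G} (hs : IsInv s) (hsQ : s ∈ Q) (f : G → ℂ) :
    (Nat.card Q : ℂ) * ∑ y ∈ (Finset.univ.filter fun u : G => IsInv u), f y =
      ∑ g : G, f (g * s * g⁻¹) := by
  have hmem : ∀ g : G, g * s * g⁻¹ ∈ (Finset.univ.filter fun u : G => IsInv u) := fun g =>
    Finset.mem_filter.2 ⟨Finset.mem_univ _, hs.conj g⟩
  rw [← Finset.sum_fiberwise_of_maps_to (g := fun g => g * s * g⁻¹)
    (fun g _ => hmem g) (fun g => f (g * s * g⁻¹)), Finset.mul_sum]
  refine Finset.sum_congr rfl fun y hy => ?_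
  obtain ⟨g₀, hg₀⟩ := invol_conj H.setup hs (Finset.mem_filter.1 hy).2
  rw [Finset.sum_congr rfl fun g hg => by rw [(Finset.mem_filter.1 hg).2], Finset.sum_const,
    nsmul_eq_mul]
  congr 1
  haveI := Fintype.ofFinite Q
  rw [Nat.card_eq_fintype_card]
  norm_cast
  refine Finset.card_nbij' (s := (Finset.univ : Finset Q))
    (t := Finset.univ.filter fun g : G => g * s * g⁻¹ = y) (fun q => g₀ * q)
    (fun g => if h : g₀⁻¹ * g ∈ Q then ⟨g₀⁻¹ * g, h⟩ else 1) ?_ ?_ ?_ ?_
  · intro q _
    simp only [Finset.coe_filter, Finset.mem_univ, true_and, Set.mem_setOf_eq]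
    calc g₀ * (q : G) * s * (g₀ * q)⁻¹ = g₀ * ((q : G) * s * (q : G)⁻¹) * g₀⁻¹ := by group
      _ = _ := by rw [H.comm q q.2 s hsQ, mul_inv_cancel_right, hg₀]
  · intro g _; exact Finset.mem_univ _
  · intro q _; simp
  · intro g hg
    simp only [Finset.coe_filter, Finset.mem_univ, true_and, Set.mem_setOf_eq] at hg
    have hc : (g₀⁻¹ * g) * s = s * (g₀⁻¹ * g) := by
      calc g₀⁻¹ * g * s = g₀⁻¹ * (g * s * g⁻¹) * g := by group
        _ = _ := by rw [hg, ← hg₀]; group
    have hm := mem_Q_of_comm H hs hsQ hc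
    simp [hm]
where
  mem_Q_of_comm {G Ω : Type _} [Group G] [MulAction G Ω] {a : Ω} {t : G} {Q : Subgroup G}
      [Finite G] (H : IsAbelianCase G Ω a t Q) {s g : G} (hs : IsInv s) (hsQ : s ∈ Q)
      (hc : g * s = s * g) : g ∈ Q := by
    have hga := comm_fix H.setup hs (Q_fix_a H.setup hsQ) hc.symm
    obtain ⟨q, hq, d, hd, rfl⟩ := exists_decomp H.setup hga
    have : d * s = s * d := by
      apply mul_left_cancel (a := q)
      rw [← mul_assoc, hc, ← mul_assoc, H.comm s hsQ q hq]; group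
    rw [H.free d hd s hsQ this hs.1, mul_one]
    exact hq

lemma centralizer_eq_Q [Finite G] {s : G} (hs : IsInv s) (hsQ : s ∈ Q) :
    Subgroup.centralizer ({s} : Set G) = Q := by
  ext g
  rw [Subgroup.mem_centralizer_singleton_iff]
  exact ⟨fun hc => sum_conjugates.mem_Q_of_comm H hs hsQ hc, fun hg => H.comm g hg s hsQ⟩

open Classical in
lemma pairFun_Q [Fintype G] {x : Q} (hx : x ≠ 1) :
    pairFun (Finset.univ.filter fun u : G => IsInv u) (x : G) =
      if x * x = 1 then (Nat.card (twoStab G a t) : ℂ) - 1 else 0 := by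
  have hmem : ∀ p : G × G, IsInv p.1 → IsInv p.2 → p.1 * p.2 = x →
      p.1 ∈ Q ∧ p.2 ∈ Q := by
    intro p h1 h2 h
    obtain ⟨c, hc⟩ := exists_fixed H.setup h1
    have h2c : p.2 • c = c := by
      by_contra hne
      have hodd := odd_mul H.setup h1 h2 hc hne
      rw [h, Subgroup.orderOf_coe] at hodd
      obtain ⟨j, hj⟩ := H.two_group x
      obtain ⟨i, -, hi⟩ := (Nat.dvd_prime_pow Nat.prime_two).1 (orderOf_dvd_of_pow_eq_one hj)
      rcases Nat.eq_zero_or_pos i with h0 | h0
      · rw [h0, pow_zero, orderOf_eq_one_iff] at hi; exact hx hi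
      · rw [hi, Nat.odd_pow_iff h0.ne'] at hodd; exact absurd hodd (by decide)
    have hca : c = a := by
      refine Q_fixed_eq H.setup x.2 (fun e => hx (Subtype.ext e)) ?_
      rw [← h, mul_smul, h2c, hc]
    subst hca
    exact ⟨invol_mem_Q H.setup h1 hc, invol_mem_Q H.setup h2 h2c⟩
  split_ifs with hxx
  · have hcard : Nat.card {e : Q // e ≠ 1 ∧ e * e = 1} = Nat.card (twoStab G a t) :=
      (Nat.card_congr (Equiv.ofBijective _ (conjQ_invol_bij H hx hxx))).symm
    haveI := Fintype.ofFinite Q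
    have : (((Finset.univ.filter fun u : G => IsInv u) ×ˢ
        (Finset.univ.filter fun u : G => IsInv u)).filter fun p => p.1 * p.2 = (x : G)).card =
        ((Finset.univ.filter fun e : Q => e ≠ 1 ∧ e * e = 1).erase x).card := by
      refine Finset.card_bij' (fun p hp => ⟨p.1, (hmem p (by simp_all) (by simp_all)
        (Finset.mem_filter.1 hp).2).1⟩) (fun e _ => ((e : G), (e : G) * x)) ?_ ?_ ?_ ?_
      · intro p hp
        simp only [Finset.mem_filter, Finset.mem_product, Finset.mem_univ, true_and] at hp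
        simp only [Finset.mem_erase, Finset.mem_filter, Finset.mem_univ, true_and, ne_eq,
          Subtype.ext_iff, Subgroup.coe_mul, OneMemClass.coe_one]
        refine ⟨fun e => hp.1.2.1 ?_, hp.1.1.1, hp.1.1.2⟩
        calc p.2 = p.1⁻¹ * (p.1 * p.2) := by group
          _ = 1 := by rw [hp.2, ← e]; group
      · intro e he
        simp only [Finset.mem_erase, Finset.mem_filter, Finset.mem_univ, true_and] at he
        have hee : (e : G) * e = 1 := congrArg Subtype.val he.2.2
        have hxe : (x : G) * x = 1 := congrArg Subtype.val hxx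
        simp only [Finset.mem_filter, Finset.mem_product, Finset.mem_univ, true_and]
        refine ⟨⟨⟨fun h => he.2.1 (Subtype.ext h), hee⟩, ⟨fun h => he.1 (Subtype.ext ?_), ?_⟩⟩, ?_⟩
        · calc (e : G) = (e : G) * x * x := by rw [mul_assoc, hxe, mul_one]
            _ = x := by rw [h, one_mul]
        · calc (e : G) * x * (e * x) = (e : G) * (x * e) * x := by group
            _ = _ := by rw [H.comm x x.2 e e.2, ← mul_assoc, hee, one_mul, hxe]
        · rw [← mul_assoc, hee, one_mul]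
      · intro p hp
        simp only [Finset.mem_filter, Finset.mem_product, Finset.mem_univ, true_and] at hp
        refine Prod.ext rfl ?_
        show p.1 * (x : G) = p.2
        rw [← hp.2, ← mul_assoc, hp.1.1.2, one_mul]
      · intro e _; rfl
    rw [pairFun, this, Finset.card_erase_of_mem (by simp [hx, hxx]), ← hcard,
      Nat.card_eq_fintype_card, Fintype.card_subtype, Nat.cast_sub, Nat.cast_one]
    exact Finset.card_pos.2 ⟨x, by simp [hx, hxx]⟩
  · rw [pairFun, Nat.cast_eq_zero, Finset.card_eq_zero, Finset.filter_eq_empty_iff]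
    intro p hp h
    simp only [Finset.mem_product, Finset.mem_filter, Finset.mem_univ, true_and] at hp
    obtain ⟨hq1, hq2⟩ := hmem p hp.1 hp.2 h
    refine hxx (Subtype.ext ?_)
    show (x : G) * x = 1
    rw [← h]
    calc p.1 * p.2 * (p.1 * p.2) = p.1 * (p.2 * p.1) * p.2 := by group
      _ = 1 := by rw [H.comm p.2 hq2 p.1 hq1, ← mul_assoc, hp.1.2, one_mul, hp.2.2]

/-- The main theorem: `Q` has exponent two. -/
theorem exponent_two [Fintype G] (x : G) (hx : x ∈ Q) : x * x = 1 := by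
  classical
  by_contra hxx
  haveI := Fintype.ofFinite Q
  haveI := Fintype.ofFinite (twoStab G a t)
  haveI : Finite (Q →* ℂˣ) := Nat.finite_of_card_ne_zero (by rw [card_lam H]; exact Nat.card_pos.ne')
  haveI := Fintype.ofFinite (Q →* ℂˣ)
  obtain ⟨hnk, y, s, hys, hs1, hss⟩ :=
    card_sq_le H (u := ⟨x, hx⟩) (fun h => hxx (congrArg Subtype.val h))
  set n := Nat.card Q with hn
  set k := Nat.card (twoStab G a t) with hk
  have hk3 : 3 ≤ k := three_le_of_odd H.setup.odd_card ((Subgroup.one_lt_card_iff_ne_bot _).2 H.nontriv)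
  have hn0 : (n : ℂ) ≠ 0 := Nat.cast_ne_zero.2 Nat.card_pos.ne'
  have hk0 : (k : ℂ) ≠ 0 := Nat.cast_ne_zero.2 Nat.card_pos.ne'
  -- special characters
  obtain ⟨μ, hμ⟩ := exists_lam_ne H hs1
  set l₀ : Q →* ℂˣ := μ ^ 2 with hl₀
  have hl₀s : l₀ s = 1 := by
    rw [hl₀, MonoidHom.pow_apply, pow_two, ← map_mul, hss, map_one]
  have hl₀1 : l₀ ≠ 1 := by
    intro h
    have := DFunLike.congr_fun h y
    rw [hl₀, MonoidHom.pow_apply, pow_two, ← map_mul, hys, MonoidHom.one_apply] at this
    exact hμ this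
  have hμ1 : μ ≠ 1 := fun h => hμ (by simp [h])
  -- orbits
  have horb : ∀ f, f ≠ 1 → (Finset.univ.filter fun g : Q →* ℂˣ => Rel H f g).card = k := by
    intro f hf
    have : (Finset.univ.filter fun g : Q →* ℂˣ => Rel H f g) =
        Finset.univ.image fun d : twoStab G a t => f.comp (conjQ H d) := by
      ext g; simp [Rel]
    rw [this, Finset.card_image_of_injective _ (fun c d h => orbit_inj H hf h), Finset.card_univ,
      hk, Nat.card_eq_fintype_card]
  have hne1 : ∀ f g, Rel H f g → f ≠ 1 → g ≠ 1 := by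
    rintro f g ⟨d, rfl⟩ hf h
    obtain ⟨e, he⟩ := rel_symm H (⟨d, rfl⟩ : Rel H f (f.comp (conjQ H d)))
    rw [h] at he
    exact hf (by rw [← he]; rfl)
  have hμl : ¬ Rel H l₀ μ := by
    rintro ⟨d, hd⟩
    apply hμ
    rw [← hd, MonoidHom.comp_apply, hl₀, MonoidHom.pow_apply, pow_two, ← map_mul, ← map_mul, hss,
      map_one, map_one]
  obtain ⟨l₂, hl₂1, hl₂a, hl₂b⟩ : ∃ l, l ≠ 1 ∧ ¬ Rel H l₀ l ∧ ¬ Rel H μ l := by
    by_contra hcon
    push Not at hcon
    have hsub : (Finset.univ : Finset (Q →* ℂˣ)) ⊆ insert 1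
        ((Finset.univ.filter fun g => Rel H l₀ g) ∪ (Finset.univ.filter fun g => Rel H μ g)) := by
      intro f _
      by_cases hf : f = 1
      · exact hf ▸ Finset.mem_insert_self _ _
      refine Finset.mem_insert_of_mem (Finset.mem_union.2 ?_)
      by_cases h : Rel H l₀ f
      · exact Or.inl (by simp [h])
      · exact Or.inr (by simp [hcon f hf h])
    have h1 := (Finset.card_le_card hsub).trans ((Finset.card_insert_le _ _).trans
      (Nat.add_le_add_right (Finset.card_union_le _ _) 1))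
    rw [horb _ hl₀1, horb _ hμ1, Finset.card_univ, ← Nat.card_eq_fintype_card, card_lam H] at h1
    nlinarith
  obtain ⟨ε, χ, hε, hdiff, hχ⟩ := coherence H hl₀1 hμ1 hl₂1 hμl hl₂a hl₂b
  have hεε : ε * ε = 1 := by rcases hε with rfl | rfl <;> norm_num
  have hεc : conj ε = ε := by rcases hε with rfl | rfl <;> simp
  -- theta at `s`
  have hs : IsInv (s : G) := ⟨fun h => hs1 (Subtype.ext h), congrArg Subtype.val hss⟩
  have hreal : ∀ f, conj (theta H f s) = theta H f s := by
    intro f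
    rw [theta, map_sum]
    refine Finset.sum_congr rfl fun d _ => ?_
    rw [← CharCore.IsCharacter.apply_inv (isCharacter_lamVal f)]
    congr 1
    rw [← map_inv, inv_eq_of_mul_eq_one_left hss]
  have hchireal : ∀ f, conj ((χ f : G → ℂ) (s : G)) = (χ f : G → ℂ) (s : G) := by
    intro f
    rw [← CharCore.IsCharacter.apply_inv (CharCore.irr_isCharacter (χ f)), inv_eq_self hs.2]
  have hsdiff : ∀ f, f ≠ 1 → theta H l₀ s - theta H f s =
      ε * ((χ l₀ : G → ℂ) (s : G) - (χ f : G → ℂ) (s : G)) := by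
    intro f hf
    have h1 := congrFun (psi_sub_restrict H l₀ f) s
    have h2 := congrFun (hdiff l₀ f hl₀1 hf) (s : G)
    simp only [Pi.sub_apply, Pi.smul_apply, smul_eq_mul] at h1 h2
    rw [← h1, h2]
  set c : ℂ := ε * (χ l₀ : G → ℂ) (s : G) - theta H l₀ s with hc
  have hval : ∀ f, f ≠ 1 → theta H f s + c = ε * (χ f : G → ℂ) (s : G) := by
    intro f hf
    linear_combination hc - hsdiff f hf
  have hdeg : ∀ f, f ≠ 1 → (χ f : G → ℂ) 1 = (χ l₀ : G → ℂ) 1 := by
    intro f hf
    have h2 := congrFun (hdiff l₀ f hl₀1 hf) 1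
    rw [psi_sub_one H, Pi.smul_apply, Pi.sub_apply, smul_eq_mul] at h2
    rcases hε with rfl | rfl <;> first | linear_combination h2 | linear_combination -h2
  obtain ⟨d, hd0, hd⟩ := CharCore.IsIrrCharacter.exists_degree (χ l₀).2
  -- values of theta at `s`
  have hth0 : theta H l₀ s = (k : ℂ) := by
    rw [theta, Finset.sum_congr rfl (g := fun _ => (1 : ℂ)) fun e _ => ?_, Finset.sum_const,
      Finset.card_univ, nsmul_eq_mul, mul_one, hk, Nat.card_eq_fintype_card]
    show ((l₀ (conjQ H e s) : ℂˣ) : ℂ) = 1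
    rw [hl₀, MonoidHom.pow_apply, pow_two, ← map_mul, ← map_mul, hss, map_one, map_one,
      Units.val_one]
  have hthμ : theta H μ s = -1 := by
    let b := Equiv.ofBijective _ (conjQ_invol_bij H (s := s) hs1 hss)
    have h1 : theta H μ s = ∑ e : {e : Q // e ≠ 1 ∧ e * e = 1}, lamVal μ e :=
      Fintype.sum_equiv b _ _ fun e => rfl
    let E : Subgroup Q :=
      { carrier := {e | e * e = 1}
        one_mem' := by simp
        mul_mem' := fun {a b} ha hb => by
          have hab : a * b = b * a := Subtype.ext (H.comm a a.2 b b.2)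
          show a * b * (a * b) = 1
          calc a * b * (a * b) = a * (b * a) * b := by group
            _ = 1 := by rw [← hab, ← mul_assoc, show a * a = 1 from ha, one_mul,
              show b * b = 1 from hb]
        inv_mem' := fun {a} ha => by
          show a⁻¹ * a⁻¹ = 1
          rw [← mul_inv_rev, show a * a = 1 from ha, inv_one] }
    haveI := Fintype.ofFinite E
    have h2 : ∑ e : E, lamVal μ (e : Q) = 0 := by
      refine sum_hom_units_eq_zero ((Units.coeHom ℂ).comp (μ.comp E.subtype)) fun h => hμ ?_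
      have := DFunLike.congr_fun h (⟨s, hss⟩ : E)
      exact Units.ext (by simpa using this)
    have h3 : ∑ e : E, lamVal μ (e : Q) = 1 + theta H μ s := by
      rw [← Finset.sum_subtype (Finset.univ.filter fun e : Q => e * e = 1)
        (fun e => by simp [E]) (fun e => lamVal μ e)]
      rw [h1, ← Finset.sum_subtype (Finset.univ.filter fun e : Q => e ≠ 1 ∧ e * e = 1)
        (fun e => by simp) (fun e => lamVal μ e)]
      rw [show (Finset.univ.filter fun e : Q => e * e = 1) =
        insert 1 (Finset.univ.filter fun e : Q => e ≠ 1 ∧ e * e = 1) by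
          ext e; by_cases he : e = 1 <;> simp [he],
        Finset.sum_insert (by simp), lamVal_one]
    linear_combination h2 - h3
  -- the class multiplication equation
  set I : Finset G := Finset.univ.filter fun u : G => IsInv u with hI
  have hIconj : ∀ h : G, ∀ u ∈ I, h * u * h⁻¹ ∈ I := fun h u hu =>
    Finset.mem_filter.2 ⟨Finset.mem_univ _, (Finset.mem_filter.1 hu).2.conj h⟩
  have hcardG : (Nat.card G : ℂ) = n * k * (n + 1) := by
    rw [card_group H.setup]; push_cast; ring
  have hNχ : ∀ ψ : Cfsg.IrrCharacter G, conj ((ψ : G → ℂ) (s : G)) = (ψ : G → ℂ) (s : G) →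
      Cfsg.classInner (pairFun I) (ψ : G → ℂ) * ((ψ : G → ℂ) 1 * n) =
        (n + 1) * k * ((ψ : G → ℂ) (s : G)) ^ 2 := by
    intro ψ hψ
    obtain ⟨e, he0, he⟩ := CharCore.IsIrrCharacter.exists_degree ψ.2
    have hA : ∀ u : G, (n : ℂ) * ((ψ : G → ℂ) 1) * (∑ v ∈ I, (ψ : G → ℂ) (u * v)) =
        Nat.card G * (ψ : G → ℂ) u * (ψ : G → ℂ) (s : G) := by
      intro u
      rw [mul_comm (n : ℂ), mul_assoc,
        hn, hI, sum_conjugates H hs s.2 (fun v => (ψ : G → ℂ) (u * v)), sum_mul_conj ψ.2]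
    have hB : (n : ℂ) * (∑ u ∈ I, (ψ : G → ℂ) u) * (ψ : G → ℂ) 1 =
        Nat.card G * (ψ : G → ℂ) 1 * (ψ : G → ℂ) (s : G) := by
      rw [hn, hI, sum_conjugates H hs s.2,
        Finset.sum_congr rfl fun g _ => CharCore.irr_isClassFunction ψ (s : G) g,
        Finset.sum_const, Finset.card_univ, nsmul_eq_mul, Nat.card_eq_fintype_card]
      ring
    have hsum : (n : ℂ) * ((ψ : G → ℂ) 1) * (∑ u ∈ I, ∑ v ∈ I, (ψ : G → ℂ) (u * v)) * n =
        (Nat.card G : ℂ) ^ 2 * ((ψ : G → ℂ) (s : G)) ^ 2 := by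
      rw [Finset.mul_sum, Finset.sum_congr rfl fun u _ => hA u, ← Finset.sum_mul,
        ← Finset.mul_sum]
      have h1 : (ψ : G → ℂ) 1 ≠ 0 := CharCore.irr_apply_one_ne_zero ψ
      apply mul_right_cancel₀ h1
      linear_combination (Nat.card G : ℂ) * (ψ : G → ℂ) (s : G) * hB
    have hCI : Cfsg.classInner (pairFun I) (ψ : G → ℂ) =
        (Nat.card G : ℂ)⁻¹ * conj (∑ u ∈ I, ∑ v ∈ I, (ψ : G → ℂ) (u * v)) := by
      rw [Cfsg.classInner, sum_pairFun_mul, map_sum]
      congr 1
      exact Finset.sum_congr rfl fun u _ => (map_sum _ _ _).symm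
    have hsum' := congrArg conj hsum
    simp only [map_mul, map_natCast, map_pow, hψ, he] at hsum'
    rw [hCI, he]
    have hG0 : (Nat.card G : ℂ) ≠ 0 := Nat.cast_ne_zero.2 Nat.card_pos.ne'
    field_simp
    rw [hcardG] at hsum' ⊢
    apply mul_left_cancel₀ hn0
    linear_combination hsum'
  -- pairing with `psi l₀ - psi μ`
  have hR : Cfsg.classInner (pairFun I) (psi l₀ - psi μ) * n = ((k : ℂ) - 1) * (k + 1) := by
    have hcl : Cfsg.IsClassFunction G (pairFun I) := isClassFunction_pairFun hIconj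
    have e : psi l₀ - psi μ = Cfsg.indFun Q (lamVal l₀ - lamVal μ) := by
      rw [CharInd.indFun_sub]; rfl
    rw [e, CharInd.classInner_indFun_right Q _ hcl, Cfsg.classInner]
    have hterm : ∀ q : Q, pairFun I (q : G) * conj ((lamVal l₀ - lamVal μ) q) =
        if q ≠ 1 ∧ q * q = 1 then ((k : ℂ) - 1) * conj (lamVal l₀ q - lamVal μ q) else 0 := by
      intro q
      by_cases hq : q = 1
      · subst hq; simp [lamVal_one]
      · rw [hI, pairFun_Q H hq]
        by_cases hqq : q * q = 1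
        · rw [if_pos hqq, if_pos ⟨hq, hqq⟩, hk]; rfl
        · rw [if_neg hqq, if_neg (fun h => hqq h.2), zero_mul]
    rw [Finset.sum_congr rfl fun q _ => hterm q, ← Finset.sum_filter,
      Finset.sum_subtype (p := fun e : Q => e ≠ 1 ∧ e * e = 1)
        (Finset.univ.filter fun e : Q => e ≠ 1 ∧ e * e = 1) (fun e => by simp)
        (fun e => ((k : ℂ) - 1) * conj (lamVal l₀ e - lamVal μ e)),
      ← Fintype.sum_equiv (Equiv.ofBijective _ (conjQ_invol_bij H (s := s) hs1 hss))
        (fun e => ((k : ℂ) - 1) * conj (lamVal l₀ (conjQ H e s) - lamVal μ (conjQ H e s)))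
        _ (fun e => rfl),
      ← Finset.mul_sum, ← map_sum, Finset.sum_sub_distrib, map_sub]
    rw [show ∑ e : twoStab G a t, lamVal l₀ (conjQ H e s) = theta H l₀ s from rfl,
      show ∑ e : twoStab G a t, lamVal μ (conjQ H e s) = theta H μ s from rfl, hreal, hreal,
      hth0, hthμ, ← hn]
    field_simp
    ring
  have hEq : ((n : ℂ) + 1) * k * ε * ((k : ℂ) - 1 + 2 * c) = ((k : ℂ) - 1) * d := by
    have hL : Cfsg.classInner (pairFun I) (psi l₀ - psi μ) =
        ε * (Cfsg.classInner (pairFun I) (χ l₀ : G → ℂ) -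
          Cfsg.classInner (pairFun I) (χ μ : G → ℂ)) := by
      rw [hdiff l₀ μ hl₀1 hμ1, CharCore.classInner_smul_right, hεc, CharCore.classInner_sub_right]
    have e1 := hNχ (χ l₀) (hchireal l₀)
    have e2 := hNχ (χ μ) (hchireal μ)
    rw [hdeg μ hμ1] at e2
    rw [hd] at e1 e2
    have v1 := hval l₀ hl₀1
    have v2 := hval μ hμ1
    rw [hth0] at v1
    rw [hthμ] at v2
    have hk1 : (k : ℂ) + 1 ≠ 0 := Nat.cast_add_one_ne_zero k
    apply mul_left_cancel₀ hk1
    have hA' : ((χ l₀ : G → ℂ) (s : G)) ^ 2 - ((χ μ : G → ℂ) (s : G)) ^ 2 =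
        ((k : ℂ) + 1) * ((k : ℂ) - 1 + 2 * c) := by
      have q1 : ((χ l₀ : G → ℂ) (s : G)) ^ 2 = ((k : ℂ) + c) ^ 2 := by
        rw [v1]; linear_combination -(((χ l₀ : G → ℂ) (s : G)) ^ 2) * hεε
      have q2 : ((χ μ : G → ℂ) (s : G)) ^ 2 = (-1 + c) ^ 2 := by
        rw [v2]; linear_combination -(((χ μ : G → ℂ) (s : G)) ^ 2) * hεε
      rw [q1, q2]; ring
    linear_combination (d : ℂ) * hR - (d : ℂ) * (n : ℂ) * hL - ε * e1 + ε * e2 -
      ((n : ℂ) + 1) * k * ε * hA'
  -- translate into inequalities over the reals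
  set Λ := (Finset.univ : Finset (Q →* ℂˣ)).erase 1 with hΛ
  have hΛcard : (Λ.card : ℂ) = (n : ℂ) - 1 := by
    rw [hΛ, Finset.card_erase_of_mem (Finset.mem_univ _), Finset.card_univ,
      ← Nat.card_eq_fintype_card, card_lam H, Nat.cast_sub Nat.card_pos, Nat.cast_one]
  set T := Λ.image χ with hT
  have hfib : ∀ F : Cfsg.IrrCharacter G → ℝ, ∑ f ∈ Λ, F (χ f) = (k : ℝ) * ∑ ψ ∈ T, F ψ := by
    intro F
    rw [Finset.mul_sum, ← Finset.sum_fiberwise_of_maps_to (g := χ)
      (fun f hf => Finset.mem_image_of_mem χ hf)]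
    refine Finset.sum_congr rfl fun ψ hψ => ?_
    obtain ⟨f, hf, rfl⟩ := Finset.mem_image.1 hψ
    have hf1 : f ≠ 1 := (Finset.mem_erase.1 hf).1
    rw [Finset.sum_congr rfl fun g hg => by rw [(Finset.mem_filter.1 hg).2], Finset.sum_const,
      nsmul_eq_mul]
    congr 2
    rw [← horb f hf1]
    congr 1
    ext g
    simp only [hΛ, Finset.mem_filter, Finset.mem_erase, Finset.mem_univ, and_true, true_and]
    refine ⟨fun h => ?_, fun h => ⟨hne1 f g h hf1, ?_⟩⟩
    · exact (hχ f g hf1 h.1).1 h.2.symm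
    · exact ((hχ f g hf1 (hne1 f g h hf1)).2 h).symm
  have htrivnot : (⟨1, CharCore.isIrrCharacter_one⟩ : Cfsg.IrrCharacter G) ∉ T := by
    intro h
    obtain ⟨f, hf, he⟩ := Finset.mem_image.1 h
    have hf1 : f ≠ 1 := (Finset.mem_erase.1 hf).1
    have h1 : ((χ f : G → ℂ) 1) = 1 := by rw [he]; rfl
    rw [hdeg f hf1, hd] at h1
    -- all exceptional characters have degree one, impossible by the degree equation
    have hd1 : (d : ℂ) = 1 := h1
    have hreq := hEq
    rw [hd1, mul_one] at hreq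
    have hcw : conj c = c := by rw [hc, map_sub, map_mul, hεc, hchireal, hreal]
    obtain ⟨g, hg, hgg⟩ : ∃ g, g ≠ 1 ∧ ¬ Rel H f g := by
      by_contra hcon
      push Not at hcon
      exact hl₂b (rel_trans H (rel_symm H (hcon μ hμ1)) (hcon l₂ hl₂1))
    have hne : χ f ≠ χ g := fun e => hgg ((hχ f g hf1 hg).1 e)
    have hg1 : ((χ g : G → ℂ) 1) = 1 := by rw [hdeg g hg, hd, hd1]
    -- the trivial character is orthogonal to the difference
    have hin := congrArg (fun φ => Cfsg.classInner φ (χ f : G → ℂ)) (hdiff f g hf1 hg)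
    simp only [CharCore.classInner_smul_left, CharCore.classInner_sub_left,
      CharCore.classInner_irr, if_neg (Ne.symm hne), if_true, sub_zero, mul_one] at hin
    have hz : Cfsg.classInner (psi f - psi g) (χ f : G → ℂ) = 0 := by
      have e : psi f - psi g = Cfsg.indFun Q (lamVal f - lamVal g) := by
        rw [CharInd.indFun_sub]; rfl
      rw [e, CharInd.classInner_indFun_left Q _ (CharCore.irr_isClassFunction _), he]
      simp only [Cfsg.classInner, Pi.sub_apply, Pi.one_apply, map_one, mul_one,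
        Finset.sum_sub_distrib, sum_lamVal hf1, sum_lamVal hg, sub_zero, mul_zero]
    rw [← CharCore.classInner_sub_left] at hin
    rw [hz] at hin
    rcases hε with rfl | rfl <;> norm_num at hin
  -- second moments
  have hmom1 : ∑ f ∈ Λ, theta H f s = -(k : ℂ) := by
    have : ∑ f : Q →* ℂˣ, theta H f s = 0 := by
      unfold theta
      rw [Finset.sum_comm]
      refine Finset.sum_eq_zero fun e _ => ?_
      rw [sum_over_lam H, if_neg]
      exact fun h => hs1 (Subtype.ext (by
        have := congrArg (fun z : Q => (e : G) * (z : G) * (e : G)⁻¹) h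
        simpa [mul_assoc] using this))
    rw [← Finset.add_sum_erase _ _ (Finset.mem_univ 1), ← hΛ] at this
    have h1 : theta H 1 s = (k : ℂ) := by
      simp [theta, lamVal, hk, Nat.card_eq_fintype_card]
    linear_combination this - h1
  have hmom2 : ∑ f ∈ Λ, theta H f s * theta H f s = (k : ℂ) * n - (k : ℂ) ^ 2 := by
    have : ∑ f : Q →* ℂˣ, theta H f s * theta H f s = (k : ℂ) * n := by
      unfold theta
      simp only [Finset.sum_mul_sum]
      rw [Finset.sum_comm]
      have : ∀ e : twoStab G a t, ∑ f : Q →* ℂˣ, ∑ e' : twoStab G a t,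
          lamVal f (conjQ H e s) * lamVal f (conjQ H e' s) = (n : ℂ) := by
        intro e
        rw [Finset.sum_comm, Finset.sum_eq_single e]
        · simp only [← lamVal_mul, ← map_mul, hss, map_one]
          simp [lamVal_one, ← Nat.card_eq_fintype_card, card_lam H, hn]
        · intro e' _ hee
          simp only [← lamVal_mul]
          rw [sum_over_lam H, if_neg]
          intro h
          apply hee
          refine (conjQ_free H hs1 ?_).symm
          have h2 : conjQ H e' s * conjQ H e' s = 1 := by rw [← map_mul, hss, map_one]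
          rw [mul_eq_one_iff_eq_inv] at h h2
          rw [h, ← h2]
        · simp
      rw [Finset.sum_congr rfl fun e _ => this e, Finset.sum_const, Finset.card_univ, nsmul_eq_mul,
        hk, Nat.card_eq_fintype_card]
    rw [← Finset.add_sum_erase _ _ (Finset.mem_univ 1), ← hΛ] at this
    have h1 : theta H 1 s = (k : ℂ) := by
      simp [theta, lamVal, hk, Nat.card_eq_fintype_card]
    rw [h1] at this
    linear_combination this
  have hcreal : conj c = c := by rw [hc, map_sub, map_mul, hεc, hchireal, hreal]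
  obtain ⟨cr, hcr⟩ : ∃ r : ℝ, c = (r : ℂ) := Complex.conj_eq_iff_real.1 hcreal
  have hsq : ∀ f, f ≠ 1 → ((Complex.normSq ((χ f : G → ℂ) (s : G)) : ℝ) : ℂ) =
      (theta H f s + c) ^ 2 := by
    intro f hf
    rw [← Complex.mul_conj, hchireal, hval f hf]
    linear_combination -((χ f : G → ℂ) (s : G)) ^ 2 * hεε
  have hcol : ∑ ψ ∈ T, Complex.normSq ((ψ : G → ℂ) (s : G)) ≤ (n : ℝ) - 1 := by
    have h := CharCore.sum_apply_mul_conj (s : G) (s : G)
    rw [if_pos (IsConj.refl _), centralizer_eq_Q H hs s.2] at h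
    have h' : ∑ ψ : Cfsg.IrrCharacter G, Complex.normSq ((ψ : G → ℂ) (s : G)) = (n : ℝ) := by
      have : ((∑ ψ : Cfsg.IrrCharacter G, Complex.normSq ((ψ : G → ℂ) (s : G)) : ℝ) : ℂ) =
          ((n : ℝ) : ℂ) := by
        push_cast
        rw [← h]
        exact Finset.sum_congr rfl fun ψ _ => (Complex.mul_conj _).symm
      exact_mod_cast this
    have h'' := Finset.sum_le_univ_sum_of_nonneg (s := insert
      (⟨1, CharCore.isIrrCharacter_one⟩ : Cfsg.IrrCharacter G) T)
      (f := fun ψ : Cfsg.IrrCharacter G => Complex.normSq ((ψ : G → ℂ) (s : G)))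
      (fun ψ => Complex.normSq_nonneg _)
    rw [Finset.sum_insert htrivnot, h'] at h''
    have e1 : Complex.normSq (((⟨1, CharCore.isIrrCharacter_one⟩ : Cfsg.IrrCharacter G) : G → ℂ)
        (s : G)) = 1 := Complex.normSq_one
    linarith
  have hdegsum : (T.card : ℝ) * (d : ℝ) ^ 2 ≤ (n : ℝ) * k * (n + 1) := by
    have h := CharCore.sum_degree_sq (G := G)
    have h' : ∑ ψ : Cfsg.IrrCharacter G, Complex.normSq ((ψ : G → ℂ) 1) = (Nat.card G : ℝ) := by
      have : ((∑ ψ : Cfsg.IrrCharacter G, Complex.normSq ((ψ : G → ℂ) 1) : ℝ) : ℂ) =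
          ((Nat.card G : ℝ) : ℂ) := by
        push_cast
        rw [← h]
        refine Finset.sum_congr rfl fun ψ _ => ?_
        obtain ⟨e, -, he⟩ := CharCore.IsIrrCharacter.exists_degree ψ.2
        rw [he, ← Complex.mul_conj, map_natCast, pow_two]
      exact_mod_cast this
    have h'' : ∑ ψ ∈ T, Complex.normSq ((ψ : G → ℂ) 1) ≤ (Nat.card G : ℝ) := h' ▸
      Finset.sum_le_univ_sum_of_nonneg fun ψ => Complex.normSq_nonneg _
    rw [Finset.sum_congr rfl (g := fun _ => (d : ℝ) ^ 2) fun ψ hψ => ?_, Finset.sum_const,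
      nsmul_eq_mul, card_group H.setup] at h''
    · push_cast at h''; exact h''
    · obtain ⟨f, hf, rfl⟩ := Finset.mem_image.1 hψ
      rw [hdeg f (Finset.mem_erase.1 hf).1, hd, Complex.normSq_natCast, pow_two]
  have hTcard : (k : ℝ) * T.card = (n : ℝ) - 1 := by
    have := hfib fun _ => 1
    simp only [Finset.sum_const, nsmul_eq_mul, mul_one] at this
    rw [← this]
    exact_mod_cast hΛcard
  have hK1 : ((n : ℝ) - 1) * cr ^ 2 - 2 * cr * k ≤ (k : ℝ) ^ 2 - k := by
    have h := hfib fun ψ => Complex.normSq ((ψ : G → ℂ) (s : G))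
    have hl : ((∑ f ∈ Λ, Complex.normSq ((χ f : G → ℂ) (s : G)) : ℝ) : ℂ) =
        ((((k : ℝ) * n - (k : ℝ) ^ 2) - 2 * cr * k + ((n : ℝ) - 1) * cr ^ 2 : ℝ) : ℂ) := by
      push_cast
      rw [Finset.sum_congr rfl fun f hf => hsq f (Finset.mem_erase.1 hf).1]
      rw [Finset.sum_congr rfl fun f _ =>
        show (theta H f s + c) ^ 2 = theta H f s * theta H f s + 2 * c * theta H f s + c ^ 2 by ring,
        Finset.sum_add_distrib, Finset.sum_add_distrib, ← Finset.mul_sum, Finset.sum_const,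
        nsmul_eq_mul, hmom2, hmom1, hΛcard, ← hcr]
      ring
    rw [Complex.ofReal_inj] at hl
    rw [hl] at h
    have : (k : ℝ) * ∑ ψ ∈ T, Complex.normSq ((ψ : G → ℂ) (s : G)) ≤ k * ((n : ℝ) - 1) :=
      mul_le_mul_of_nonneg_left hcol (Nat.cast_nonneg k)
    nlinarith
  have hK2 : ((n : ℝ) ^ 2 - 1) * ((k : ℝ) - 1 + 2 * cr) ^ 2 ≤ (n : ℝ) * ((k : ℝ) - 1) ^ 2 := by
    obtain ⟨er, her, her2⟩ : ∃ r : ℝ, ε = (r : ℂ) ∧ r ^ 2 = 1 := by
      rcases hε with rfl | rfl
      · exact ⟨1, by norm_num⟩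
      · exact ⟨-1, by norm_num⟩
    rw [hcr, her] at hEq
    have hEr : ((n : ℝ) + 1) * k * er * ((k : ℝ) - 1 + 2 * cr) = ((k : ℝ) - 1) * d := by
      exact_mod_cast hEq
    have hd2 : ((k : ℝ) - 1) ^ 2 * (d : ℝ) ^ 2 =
        ((n : ℝ) + 1) ^ 2 * (k : ℝ) ^ 2 * ((k : ℝ) - 1 + 2 * cr) ^ 2 := by
      rw [← mul_pow, ← hEr]; linear_combination
        (((n : ℝ) + 1) ^ 2 * (k : ℝ) ^ 2 * ((k : ℝ) - 1 + 2 * cr) ^ 2) * her2
    have h1 : ((n : ℝ) - 1) * (d : ℝ) ^ 2 ≤ (n : ℝ) * (k : ℝ) ^ 2 * (n + 1) := by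
      rw [← hTcard]
      calc (k : ℝ) * T.card * (d : ℝ) ^ 2 = k * (T.card * (d : ℝ) ^ 2) := by ring
        _ ≤ k * ((n : ℝ) * k * (n + 1)) := mul_le_mul_of_nonneg_left hdegsum (Nat.cast_nonneg k)
        _ = _ := by ring
    have h2 := mul_le_mul_of_nonneg_left h1 (sq_nonneg ((k : ℝ) - 1))
    have hkp : (0 : ℝ) < (k : ℝ) ^ 2 * ((n : ℝ) + 1) := by
      have : (3 : ℝ) ≤ k := by exact_mod_cast hk3
      positivity
    refine le_of_mul_le_mul_left ?_ hkp
    calc (k : ℝ) ^ 2 * ((n : ℝ) + 1) * (((n : ℝ) ^ 2 - 1) * ((k : ℝ) - 1 + 2 * cr) ^ 2)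
        = ((k : ℝ) - 1) ^ 2 * (((n : ℝ) - 1) * (d : ℝ) ^ 2) := by
          linear_combination -((n : ℝ) - 1) * hd2
      _ ≤ ((k : ℝ) - 1) ^ 2 * ((n : ℝ) * (k : ℝ) ^ 2 * (n + 1)) := h2
      _ = _ := by ring
  exact numeric_contra (by exact_mod_cast hk3) (by exact_mod_cast hnk) hK1 hK2

end

end Cfsg.Agent.RankOne
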