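import Cfsg.Agent.Lib.CharCore.Virtual
import Cfsg.Agent.Lib.CharCore.Complete
import Cfsg.Agent.Lib.CharClifford.Central

/-!
Two tools for exceptional character arguments: sums of a character over products of a conjugacy
class, and generalised characters of norm two and degree zero.
-/

set_option autoImplicit false

namespace Cfsg.Agent.RankOne

open Finset Module
open scoped ComplexConjugate

variable {G : Type*} [Group G] [Fintype G]

/-- `χ(1) · Σ_g χ(x (g s g⁻¹)) = |G| χ(x) χ(s)`. -/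
lemma sum_mul_conj {χ : G → ℂ} (hχ : Cfsg.IsIrrCharacter G χ) (x s : G) :
    χ 1 * ∑ g : G, χ (x * (g * s * g⁻¹)) = (Nat.card G : ℂ) * χ x * χ s := by
  obtain ⟨n, ρ, hρ, rfl⟩ := hχ
  set S : (Fin n → ℂ) →ₗ[ℂ] (Fin n → ℂ) := ∑ g : G, ρ (g * s * g⁻¹) with hS
  have hcomm : ∀ y, Commute S (ρ y) := by
    intro y
    rw [Commute, SemiconjBy, hS, Finset.sum_mul, Finset.mul_sum]
    refine Fintype.sum_equiv (Equiv.mulLeft y⁻¹) _ _ fun g => ?_
    rw [← map_mul, ← map_mul, Equiv.coe_mulLeft]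
    congr 1
    group
  obtain ⟨c, hc⟩ := CharClifford.exists_scalar_of_commute ρ S hcomm
  have h1 : c * n = (Nat.card G : ℂ) * ρ.character s := by
    have := CharClifford.scalar_eq_of_trace hc
    rw [Module.finrank_fin_fun] at this
    rw [← this, hS, map_sum, Finset.sum_congr rfl fun g _ =>
      show LinearMap.trace ℂ (Fin n → ℂ) (ρ (g * s * g⁻¹)) = ρ.character s from
        Representation.char_conj ρ s g]
    rw [Finset.sum_const, Finset.card_univ, nsmul_eq_mul, Nat.card_eq_fintype_card]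
  have h2 : ∑ g : G, ρ.character (x * (g * s * g⁻¹)) = c * ρ.character x := by
    have : ∑ g : G, ρ (x * (g * s * g⁻¹)) = c • ρ x := by
      rw [Finset.sum_congr rfl fun g _ => map_mul ρ x (g * s * g⁻¹), ← Finset.mul_sum, ← hS, hc]
      ext v : 1
      simp
    show ∑ g : G, LinearMap.trace ℂ (Fin n → ℂ) (ρ (x * (g * s * g⁻¹))) = _
    rw [← map_sum, this, map_smul, smul_eq_mul]
    rfl
  rw [h2, ρ.char_one, Module.finrank_fin_fun]
  linear_combination ρ.character x * h1

/-- A class function counting ordered pairs of involutions with a given product. -/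
noncomputable def pairFun (S : Finset G) (g : G) : ℂ :=
  open Classical in (((S ×ˢ S).filter fun p => p.1 * p.2 = g).card : ℂ)

lemma isClassFunction_pairFun {S : Finset G} (hS : ∀ h : G, ∀ x ∈ S, h * x * h⁻¹ ∈ S) :
    Cfsg.IsClassFunction G (pairFun S) := by
  classical
  intro g h
  simp only [pairFun]
  congr 1
  refine Finset.card_nbij' (fun p => (h⁻¹ * p.1 * h, h⁻¹ * p.2 * h))
    (fun p => (h * p.1 * h⁻¹, h * p.2 * h⁻¹)) ?_ ?_ ?_ ?_
  · intro p hp
    simp only [Finset.coe_filter, Finset.mem_product, Set.mem_setOf_eq] at hp ⊢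
    refine ⟨⟨by simpa using hS h⁻¹ _ hp.1.1, by simpa using hS h⁻¹ _ hp.1.2⟩, ?_⟩
    calc h⁻¹ * p.1 * h * (h⁻¹ * p.2 * h) = h⁻¹ * (p.1 * p.2) * h := by group
      _ = g := by rw [hp.2]; group
  · intro p hp
    simp only [Finset.coe_filter, Finset.mem_product, Set.mem_setOf_eq] at hp ⊢
    refine ⟨⟨hS h _ hp.1.1, hS h _ hp.1.2⟩, ?_⟩
    calc h * p.1 * h⁻¹ * (h * p.2 * h⁻¹) = h * (p.1 * p.2) * h⁻¹ := by group
      _ = _ := by rw [hp.2]
  · intro p _; simp [mul_assoc]
  · intro p _; simp [mul_assoc]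

lemma sum_pairFun_mul (S : Finset G) (f : G → ℂ) :
    ∑ g : G, pairFun S g * f g = ∑ x ∈ S, ∑ y ∈ S, f (x * y) := by
  classical
  rw [← Finset.sum_product', ← Finset.sum_fiberwise (s := S ×ˢ S) (g := fun p => p.1 * p.2)]
  refine Finset.sum_congr rfl fun g _ => ?_
  rw [Finset.sum_congr rfl fun p hp => by rw [(Finset.mem_filter.1 hp).2], Finset.sum_const,
    nsmul_eq_mul]
  rfl

/-- A generalised character of norm two vanishing at `1` is a difference of two irreducibles. -/
lemma exists_irr_diff {φ : G → ℂ} (hφ : Cfsg.IsGeneralizedCharacter G φ)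
    (h0 : φ 1 = 0) (h2 : Cfsg.classInner φ φ = 2) :
    ∃ a b : Cfsg.IrrCharacter G, a ≠ b ∧ φ = (a : G → ℂ) - (b : G → ℂ) := by
  classical
  obtain ⟨m, hm⟩ := CharCore.IsGeneralizedCharacter.exists_sum hφ
  have hsq : ∑ ψ, m ψ * m ψ = 2 := by
    have : ∑ ψ, (m ψ : ℂ) * conj (m ψ : ℂ) = 2 := by
      rw [← CharCore.classInner_sum_sum, ← hm, h2]
    simp only [map_intCast] at this
    exact_mod_cast this
  have hle : ∀ ψ, m ψ = 0 ∨ m ψ = 1 ∨ m ψ = -1 := by
    intro ψ
    have h1 : m ψ * m ψ ≤ 2 := hsq ▸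
      Finset.single_le_sum (f := fun ψ => m ψ * m ψ) (fun i _ => mul_self_nonneg (m i))
        (Finset.mem_univ ψ)
    have h3 : -1 ≤ m ψ := by nlinarith
    have h4 : m ψ ≤ 1 := by nlinarith
    omega
  set T := Finset.univ.filter fun ψ => m ψ ≠ 0 with hT
  have hcard : T.card = 2 := by
    have : ∑ ψ, m ψ * m ψ = ∑ ψ ∈ T, (1 : ℤ) := by
      rw [hT, Finset.sum_filter]
      refine Finset.sum_congr rfl fun ψ _ => ?_
      rcases hle ψ with h | h | h <;> simp [h]
    rw [hsq, Finset.sum_const, nsmul_eq_mul, mul_one] at this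
    exact_mod_cast this.symm
  obtain ⟨a, b, hab, hTab⟩ := Finset.card_eq_two.1 hcard
  have hφ' : φ = (m a : ℂ) • (a : G → ℂ) + (m b : ℂ) • (b : G → ℂ) := by
    rw [hm, ← Finset.sum_pair hab (f := fun ψ : Cfsg.IrrCharacter G => (m ψ : ℂ) • (ψ : G → ℂ)),
      ← hTab]
    refine (Finset.sum_subset (Finset.subset_univ _) fun ψ _ hψ => ?_).symm
    have : m ψ = 0 := by simpa [hT] using hψ
    simp [this]
  have hma : m a ≠ 0 := by
    have : a ∈ T := hTab ▸ Finset.mem_insert_self _ _
    exact (Finset.mem_filter.1 this).2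
  have hmb : m b ≠ 0 := by
    have : b ∈ T := hTab ▸ Finset.mem_insert_of_mem (Finset.mem_singleton_self _)
    exact (Finset.mem_filter.1 this).2
  obtain ⟨na, hna, hna'⟩ := CharCore.IsIrrCharacter.exists_degree a.2
  obtain ⟨nb, hnb, hnb'⟩ := CharCore.IsIrrCharacter.exists_degree b.2
  have hdeg : m a * (na : ℤ) + m b * (nb : ℤ) = 0 := by
    have := congrFun hφ' 1
    rw [h0, Pi.add_apply, Pi.smul_apply, Pi.smul_apply, smul_eq_mul, smul_eq_mul, hna',
      hnb'] at this
    exact_mod_cast this.symm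
  rcases (hle a).resolve_left hma with h | h <;> rcases (hle b).resolve_left hmb with h' | h' <;>
    rw [h, h'] at hdeg
  · omega
  · exact ⟨a, b, hab, by rw [hφ', h, h']; simp [sub_eq_add_neg]⟩
  · exact ⟨b, a, hab.symm, by rw [hφ', h, h']; simp [sub_eq_add_neg, add_comm]⟩
  · omega

/-- Inner products of two differences of irreducibles. -/
lemma classInner_diff [DecidableEq (Cfsg.IrrCharacter G)] (a b a' b' : Cfsg.IrrCharacter G) :
    Cfsg.classInner ((a : G → ℂ) - (b : G → ℂ)) ((a' : G → ℂ) - (b' : G → ℂ)) =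
      (((if a = a' then 1 else 0) - (if a = b' then 1 else 0) -
        ((if b = a' then 1 else 0) - (if b = b' then 1 else 0)) : ℤ) : ℂ) := by
  simp only [CharCore.classInner_sub_left, CharCore.classInner_sub_right, CharCore.classInner_irr]
  push_cast
  ring

end Cfsg.Agent.RankOne
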