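import Cfsg.Agent.Lib.RankOne.Fixed
import Cfsg.Agent.Lib.RankOne.ClassPairs
import Cfsg.Agent.Lib.CharInd.Basic
import Cfsg.Agent.Lib.CharInd.Char
import Cfsg.Agent.Lib.CharCore.Linear

/-!
A Zassenhaus group of odd degree with an abelian regular normal subgroup `Q` in the point
stabiliser: `Q` has exponent two.  The proof compares the exceptional characters attached to the
Frobenius group `Q D` with the class multiplication formula for involutions.
-/

set_option autoImplicit false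

namespace Cfsg.Agent.RankOne

open MulAction Finset
open scoped ComplexConjugate

variable {G Ω : Type*} [Group G] [MulAction G Ω] {a : Ω} {t : G} {Q : Subgroup G}

/-- The hypotheses of the abelian Zassenhaus case. -/
structure IsAbelianCase (G Ω : Type*) [Group G] [MulAction G Ω] (a : Ω) (t : G) (Q : Subgroup G) :
    Prop where
  setup : Cfsg.IsRankOneSetup G Ω a t Q
  comm : ∀ x ∈ Q, ∀ y ∈ Q, x * y = y * x
  free : ∀ d ∈ twoStab G a t, ∀ x ∈ Q, d * x = x * d → x ≠ 1 → d = 1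
  inverted : ∀ d ∈ twoStab G a t, t * d * t⁻¹ = d⁻¹
  nontriv : twoStab G a t ≠ ⊥
  two_group : IsPGroup 2 Q

section
variable (H : IsAbelianCase G Ω a t Q)
include H

lemma twoStab_comm {c d : G} (hc : c ∈ twoStab G a t) (hd : d ∈ twoStab G a t) :
    c * d = d * c := by
  calc c * d = t * (t⁻¹ * (c * d) * t) * t⁻¹ := by group
    _ = t * (t * (c * d) * t⁻¹) * t⁻¹ := by rw [t_inv H.setup]
    _ = t * (d⁻¹ * c⁻¹) * t⁻¹ := by rw [H.inverted _ (mul_mem hc hd), mul_inv_rev]
    _ = (t * d * t⁻¹)⁻¹ * (t * c * t⁻¹)⁻¹ := by group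
    _ = _ := by rw [H.inverted _ hd, H.inverted _ hc, inv_inv, inv_inv]

lemma inverted_eq : Cfsg.invertedBy (twoStab G a t) t = (twoStab G a t : Set G) :=
  Set.ext fun d => ⟨fun h => h.1, fun h => ⟨h, H.inverted d h⟩⟩

lemma card_invol [Finite G] :
    Nat.card (Cfsg.involutionsIn (stabilizer G a : Set G)) = Nat.card (twoStab G a t) := by
  rw [← card_inverted H.setup, inverted_eq H]; rfl

/-- Conjugation of `Q` by an element of `D`. -/
def conjQ (d : twoStab G a t) : Q →* Q where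
  toFun x := ⟨(d : G)⁻¹ * x * d, by
    simpa using H.setup.conj_mem (d : G)⁻¹ (inv_mem (Subgroup.mem_inf.1 d.2).1) x x.2⟩
  map_one' := Subtype.ext (by simp)
  map_mul' x y := Subtype.ext (by simp [mul_assoc])

@[simp] lemma conjQ_coe (d : twoStab G a t) (x : Q) :
    ((conjQ H d x : Q) : G) = (d : G)⁻¹ * x * d := rfl

lemma conjQ_comp (c d : twoStab G a t) : (conjQ H d).comp (conjQ H c) = conjQ H (c * d) :=
  MonoidHom.ext fun x => Subtype.ext (by simp [mul_assoc])

lemma conjQ_one : conjQ H 1 = MonoidHom.id Q := MonoidHom.ext fun x => Subtype.ext (by simp)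

lemma conjQ_free {c d : twoStab G a t} {x : Q} (hx : x ≠ 1) (h : conjQ H c x = conjQ H d x) :
    c = d := by
  have h' : (c : G)⁻¹ * x * c = (d : G)⁻¹ * x * d := congrArg Subtype.val h
  have hcomm : ((d : G) * (c : G)⁻¹) * x = x * ((d : G) * (c : G)⁻¹) := by
    calc ((d : G) * (c : G)⁻¹) * x = (d : G) * ((c : G)⁻¹ * x * c) * (c : G)⁻¹ := by group
      _ = _ := by rw [h']; group
  have := H.free _ (mul_mem d.2 (inv_mem c.2)) x x.2 hcomm
    (fun e => hx (Subtype.ext e))
  exact Subtype.ext (mul_inv_eq_one.1 this).symm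

end

/-! ### Linear characters of `Q` -/

/-- The complex values of a linear character of `Q`. -/
noncomputable def lamVal (f : Q →* ℂˣ) (x : Q) : ℂ := (f x : ℂ)

lemma lamVal_mul (f : Q →* ℂˣ) (x y : Q) : lamVal f (x * y) = lamVal f x * lamVal f y := by
  simp [lamVal]

lemma lamVal_one (f : Q →* ℂˣ) : lamVal f 1 = 1 := by simp [lamVal]

lemma isCharacter_lamVal (f : Q →* ℂˣ) : Cfsg.IsCharacter Q (lamVal f) :=
  CharCore.IsIrrCharacter.isCharacter (CharCore.isIrrCharacter_hom f)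

lemma sum_lamVal [Fintype Q] {f : Q →* ℂˣ} (hf : f ≠ 1) : ∑ x : Q, lamVal f x = 0 := by
  refine sum_hom_units_eq_zero ((Units.coeHom ℂ).comp f) fun h => hf (MonoidHom.ext fun x => ?_)
  exact Units.ext (by simpa using DFunLike.congr_fun h x)

lemma sum_lamVal_inner [Fintype Q] (f f' : Q →* ℂˣ) [Decidable (f = f')] :
    Cfsg.classInner (lamVal f) (lamVal f') = if f = f' then 1 else 0 := by
  have h : ∀ x, lamVal f x * conj (lamVal f' x) = lamVal (f * f'⁻¹) x := fun x => by
    rw [← CharCore.IsCharacter.apply_inv (isCharacter_lamVal f') x]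
    simp [lamVal]
  rw [Cfsg.classInner, Finset.sum_congr rfl fun x _ => h x]
  split_ifs with e
  · subst e
    have hn : (Nat.card Q : ℂ) ≠ 0 := Nat.cast_ne_zero.2 Nat.card_pos.ne'
    rw [Finset.sum_congr rfl (g := fun _ => (1 : ℂ)) (fun x _ => by simp [lamVal]), Finset.sum_const,
      Finset.card_univ, nsmul_eq_mul, mul_one, ← Nat.card_eq_fintype_card]
    exact inv_mul_cancel₀ hn
  · rw [sum_lamVal (fun h1 => e (mul_inv_eq_one.1 h1)), mul_zero]

section
variable (H : IsAbelianCase G Ω a t Q)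
include H

lemma exists_lam_ne [Finite G] {x : Q} (hx : x ≠ 1) : ∃ f : Q →* ℂˣ, f x ≠ 1 := by
  letI : CommGroup Q :=
    { (inferInstance : Group Q) with
      mul_comm := fun a b => Subtype.ext (H.comm a a.2 b b.2) }
  haveI : NeZero (Monoid.exponent Q) := ⟨Monoid.exponent_ne_zero_of_finite⟩
  exact CommGroup.exists_apply_ne_one_of_hasEnoughRootsOfUnity Q ℂ hx

lemma card_lam [Finite G] : Nat.card (Q →* ℂˣ) = Nat.card Q := by
  letI : CommGroup Q :=
    { (inferInstance : Group Q) with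
      mul_comm := fun a b => Subtype.ext (H.comm a a.2 b b.2) }
  haveI : NeZero (Monoid.exponent Q) := ⟨Monoid.exponent_ne_zero_of_finite⟩
  exact CommGroup.card_monoidHom_of_hasEnoughRootsOfUnity Q ℂ

lemma sum_over_lam [Finite G] [Fintype (Q →* ℂˣ)] [DecidableEq Q] (x : Q) :
    ∑ f : Q →* ℂˣ, lamVal f x = if x = 1 then (Nat.card Q : ℂ) else 0 := by
  split_ifs with hx
  · subst hx
    simp [lamVal_one, ← Nat.card_eq_fintype_card, card_lam H]
  · obtain ⟨μ, hμ⟩ := exists_lam_ne H hx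
    have h : (μ x : ℂ) * ∑ f : Q →* ℂˣ, lamVal f x = ∑ f : Q →* ℂˣ, lamVal f x := by
      rw [Finset.mul_sum]
      exact Fintype.sum_equiv (Equiv.mulLeft μ) _ _ fun f => by simp [lamVal]
    have h2 : ((μ x : ℂ) - 1) * ∑ f : Q →* ℂˣ, lamVal f x = 0 := by
      rw [sub_mul, h, one_mul, sub_self]
    refine (mul_eq_zero.1 h2).resolve_left (sub_ne_zero.2 fun e => hμ ?_)
    exact Units.ext e

/-- The character of `Q D` attached to a linear character of `Q`, restricted to `Q`. -/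
noncomputable def theta [Fintype (twoStab G a t)] (f : Q →* ℂˣ) (x : Q) : ℂ :=
  ∑ d : twoStab G a t, lamVal f (conjQ H d x)

lemma theta_one [Fintype (twoStab G a t)] (f : Q →* ℂˣ) :
    theta H f 1 = (Nat.card (twoStab G a t) : ℂ) := by
  simp only [theta, map_one, lamVal_one, Finset.sum_const, Finset.card_univ, nsmul_eq_mul, mul_one,
    Nat.card_eq_fintype_card]

lemma inner_theta [Fintype Q] [Fintype (twoStab G a t)] [DecidableEq (Q →* ℂˣ)]
    (f f' : Q →* ℂˣ) :
    Cfsg.classInner (lamVal f) (theta H f') =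
      ((Finset.univ.filter fun d : twoStab G a t => f'.comp (conjQ H d) = f).card : ℂ) := by
  have : theta H f' = ∑ d : twoStab G a t, lamVal (f'.comp (conjQ H d)) := by
    funext x; simp [theta, lamVal, Finset.sum_apply]
  rw [this, CharCore.classInner_sum_right, Finset.sum_congr rfl fun d _ =>
    sum_lamVal_inner f (f'.comp (conjQ H d)), Finset.sum_boole]
  congr 2
  exact Finset.filter_congr fun d _ => eq_comm

/-- Two linear characters in one `D`-orbit. -/
def Rel (f f' : Q →* ℂˣ) : Prop := ∃ d : twoStab G a t, f.comp (conjQ H d) = f'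

lemma rel_symm {f f' : Q →* ℂˣ} (h : Rel H f f') : Rel H f' f := by
  obtain ⟨d, rfl⟩ := h
  refine ⟨d⁻¹, ?_⟩
  rw [MonoidHom.comp_assoc, conjQ_comp H, inv_mul_cancel, conjQ_one H, MonoidHom.comp_id]

lemma rel_refl (f : Q →* ℂˣ) : Rel H f f := ⟨1, by rw [conjQ_one H, MonoidHom.comp_id]⟩

lemma rel_trans {f f' f'' : Q →* ℂˣ} (h : Rel H f f') (h' : Rel H f' f'') : Rel H f f'' := by
  obtain ⟨c, rfl⟩ := h
  obtain ⟨d, rfl⟩ := h'
  exact ⟨d * c, by rw [MonoidHom.comp_assoc, conjQ_comp H]⟩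

lemma orbit_inj [Finite G] {f : Q →* ℂˣ} (hf : f ≠ 1) {c d : twoStab G a t}
    (h : f.comp (conjQ H c) = f.comp (conjQ H d)) : c = d := by
  by_contra hne
  letI : CommGroup Q :=
    { (inferInstance : Group Q) with
      mul_comm := fun a b => Subtype.ext (H.comm a a.2 b b.2) }
  let m : Q →* Q := conjQ H c * (conjQ H d)⁻¹
  have hm : Function.Injective m := (injective_iff_map_eq_one m).2 fun x hx => by
    by_contra hx1
    exact hne (conjQ_free H hx1 (mul_inv_eq_one.1 hx))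
  have hms : Function.Surjective m := Finite.surjective_of_injective hm
  refine hf (MonoidHom.ext fun y => ?_)
  obtain ⟨x, rfl⟩ := hms y
  have := DFunLike.congr_fun h x
  simp only [MonoidHom.comp_apply] at this
  simp [m, this]

lemma inner_theta_eq [Fintype Q] [Fintype (twoStab G a t)] [Finite G] (f f' : Q →* ℂˣ)
    (hf' : f' ≠ 1) [Decidable (Rel H f' f)] :
    Cfsg.classInner (lamVal f) (theta H f') = if Rel H f' f then 1 else 0 := by
  classical
  rw [inner_theta H]
  split_ifs with h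
  · obtain ⟨d, hd⟩ := h
    have : (Finset.univ.filter fun e : twoStab G a t => f'.comp (conjQ H e) = f) = {d} := by
      ext e
      simp only [Finset.mem_filter, Finset.mem_univ, true_and, Finset.mem_singleton]
      exact ⟨fun he => orbit_inj H hf' (he.trans hd.symm), fun he => he ▸ hd⟩
    rw [this, Finset.card_singleton, Nat.cast_one]
  · rw [Nat.cast_eq_zero, Finset.card_eq_zero, Finset.filter_eq_empty_iff]
    exact fun e _ he => h ⟨e, he⟩

/-! ### The Frobenius group `Q D` inside `G` -/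

lemma mem_Q_conj_iff {x : Q} (hx : x ≠ 1) {g : G} (hg : g⁻¹ * x * g ∈ Q) : g • a = a := by
  have h := Q_fix_a H.setup hg
  rw [mul_smul, mul_smul, inv_smul_eq_iff] at h
  exact Q_fixed_eq H.setup x.2 (fun e => hx (Subtype.ext e)) h

/-- The induced character on `G`. -/
noncomputable def psi [Fintype G] (f : Q →* ℂˣ) : G → ℂ := Cfsg.indFun Q (lamVal f)

lemma psi_restrict [Fintype G] [Fintype (twoStab G a t)] (f : Q →* ℂˣ) {x : Q} (hx : x ≠ 1) :
    psi f x = theta H f x := by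
  classical
  haveI := Fintype.ofFinite Q
  have hn : (Nat.card Q : ℂ) ≠ 0 := Nat.cast_ne_zero.2 Nat.card_pos.ne'
  rw [psi, CharInd.indFun_apply]
  let e : Q × twoStab G a t → G := fun p => p.1 * p.2
  have he : Function.Injective e := fun p p' h => by
    obtain ⟨h1, h2⟩ := decomp_unique H.setup p.1.2 p.2.2 p'.1.2 p'.2.2 h
    exact Prod.ext (Subtype.ext h1) (Subtype.ext h2)
  have h1 : ∑ g : G, Cfsg.extendByZero Q (lamVal f) (g⁻¹ * x * g) =
      ∑ p : Q × twoStab G a t, Cfsg.extendByZero Q (lamVal f) ((e p)⁻¹ * x * e p) := by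
    rw [← Finset.sum_image (f := fun g => Cfsg.extendByZero Q (lamVal f) (g⁻¹ * x * g))
      (fun p _ p' _ h => he h)]
    refine (Finset.sum_subset (Finset.subset_univ _) fun g _ hg => ?_).symm
    refine CharInd.extendByZero_notMem _ fun hmem => hg ?_
    obtain ⟨q, hq, d, hd, rfl⟩ := exists_decomp H.setup (mem_Q_conj_iff H hx hmem)
    exact Finset.mem_image.2 ⟨(⟨q, hq⟩, ⟨d, hd⟩), Finset.mem_univ _, rfl⟩
  have h2 : ∀ p : Q × twoStab G a t,
      Cfsg.extendByZero Q (lamVal f) ((e p)⁻¹ * x * e p) = lamVal f (conjQ H p.2 x) := by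
    rintro ⟨q, d⟩
    have heq : (e (q, d))⁻¹ * x * e (q, d) = ((conjQ H d x : Q) : G) := by
      rw [conjQ_coe H]
      show ((q : G) * d)⁻¹ * x * ((q : G) * d) = _
      calc ((q : G) * d)⁻¹ * x * ((q : G) * d) = (d : G)⁻¹ * ((q : G)⁻¹ * (x * q)) * d := by group
        _ = _ := by rw [H.comm x x.2 q q.2]; group
    rw [heq, CharInd.extendByZero_coe]
  rw [h1, Finset.sum_congr rfl fun p _ => h2 p, Fintype.sum_prod_type]
  rw [show (∑ q : Q, ∑ d : twoStab G a t, lamVal f (conjQ H (q, d).2 x)) =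
    ∑ _q : Q, theta H f x from rfl, Finset.sum_const,
    Finset.card_univ, nsmul_eq_mul, ← Nat.card_eq_fintype_card, ← mul_assoc,
    inv_mul_cancel₀ hn, one_mul]

lemma psi_sub_restrict [Fintype G] [Fintype (twoStab G a t)] (f f' : Q →* ℂˣ) :
    (fun x : Q => (psi f - psi f') x) = theta H f - theta H f' := by
  funext x
  by_cases hx : x = 1
  · subst hx
    simp only [Pi.sub_apply, OneMemClass.coe_one]
    rw [psi, psi, CharInd.indFun_apply_one, CharInd.indFun_apply_one, theta_one, theta_one,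
      lamVal_one, lamVal_one]
    simp
  · simp [psi_restrict H _ hx]

lemma psi_sub_generalized [Fintype G] (f f' : Q →* ℂˣ) :
    Cfsg.IsGeneralizedCharacter G (psi f - psi f') :=
  ⟨_, _, CharInd.isCharacter_indFun Q (isCharacter_lamVal f),
    CharInd.isCharacter_indFun Q (isCharacter_lamVal f'), rfl⟩

lemma psi_sub_one [Fintype G] (f f' : Q →* ℂˣ) : (psi f - psi f') 1 = 0 := by
  rw [Pi.sub_apply, psi, psi, CharInd.indFun_apply_one, CharInd.indFun_apply_one, lamVal_one,
    lamVal_one, sub_self]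

open Classical in
lemma psi_inner [Fintype G] {f₁ f₂ f₃ f₄ : Q →* ℂˣ} (h₃ : f₃ ≠ 1) (h₄ : f₄ ≠ 1) :
    Cfsg.classInner (psi f₁ - psi f₂) (psi f₃ - psi f₄) =
      ((if Rel H f₃ f₁ then 1 else 0) - (if Rel H f₄ f₁ then 1 else 0) -
        ((if Rel H f₃ f₂ then 1 else 0) - (if Rel H f₄ f₂ then 1 else 0)) : ℂ) := by
  haveI := Fintype.ofFinite Q
  haveI := Fintype.ofFinite (twoStab G a t)
  have hc : Cfsg.IsClassFunction G (psi f₃ - psi f₄) := fun g h => by
    simp only [Pi.sub_apply, psi, CharInd.isClassFunction_indFun Q _ g h]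
  have e : psi f₁ - psi f₂ = Cfsg.indFun Q (lamVal f₁ - lamVal f₂) := by
    rw [CharInd.indFun_sub]; rfl
  conv_lhs => rw [e]
  rw [CharInd.classInner_indFun_left Q _ hc, psi_sub_restrict H]
  simp only [CharCore.classInner_sub_left, CharCore.classInner_sub_right]
  rw [inner_theta_eq H f₁ f₃ h₃, inner_theta_eq H f₁ f₄ h₄, inner_theta_eq H f₂ f₃ h₃,
    inner_theta_eq H f₂ f₄ h₄]
  ring

end

/-! ### Coherence -/

section
variable (H : IsAbelianCase G Ω a t Q)
include H

/-- The coherent family attached to the orbits of non-principal linear characters. -/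
theorem coherence [Fintype G] {l₀ l₁ l₂ : Q →* ℂˣ} (h0 : l₀ ≠ 1) (h1 : l₁ ≠ 1) (h2 : l₂ ≠ 1)
    (h01 : ¬ Rel H l₀ l₁) (h02 : ¬ Rel H l₀ l₂) (h12 : ¬ Rel H l₁ l₂) :
    ∃ (ε : ℂ) (χ : (Q →* ℂˣ) → Cfsg.IrrCharacter G), (ε = 1 ∨ ε = -1) ∧
      (∀ f f', f ≠ 1 → f' ≠ 1 →
        psi f - psi f' = ε • (((χ f : G → ℂ)) - ((χ f' : G → ℂ)))) ∧
      ∀ f f', f ≠ 1 → f' ≠ 1 → (χ f = χ f' ↔ Rel H f f') := by
  classical
  set φ : (Q →* ℂˣ) → G → ℂ := fun f => psi l₀ - psi f with hφ
  have sym : ∀ f f', ¬ Rel H f f' → ¬ Rel H f' f := fun f f' h h' => h (rel_symm H h')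
  have norm2 : ∀ f, f ≠ 1 → ¬ Rel H l₀ f → Cfsg.classInner (φ f) (φ f) = 2 := by
    intro f hf h
    rw [hφ, psi_inner H h0 hf, if_pos (rel_refl H l₀), if_neg (sym _ _ h), if_neg h,
      if_pos (rel_refl H f)]
    norm_num
  have inner1 : ∀ f f', f' ≠ 1 → ¬ Rel H l₀ f → ¬ Rel H l₀ f' → ¬ Rel H f f' →
      Cfsg.classInner (φ f) (φ f') = 1 := by
    intro f f' hf' h h' h''
    rw [hφ, psi_inner H h0 hf', if_pos (rel_refl H l₀), if_neg (sym _ _ h'), if_neg h,
      if_neg (sym _ _ h'')]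
    norm_num
  have diff : ∀ f, f ≠ 1 → ¬ Rel H l₀ f → ∃ A B : Cfsg.IrrCharacter G, A ≠ B ∧
      φ f = (A : G → ℂ) - (B : G → ℂ) := fun f hf h =>
    exists_irr_diff (psi_sub_generalized H l₀ f) (psi_sub_one H l₀ f) (norm2 f hf h)
  obtain ⟨a₁, b₁, hab₁, hφ₁⟩ := diff l₁ h1 h01
  obtain ⟨a₂, b₂, hab₂, hφ₂⟩ := diff l₂ h2 h02
  have share : ∀ {A B A' B' : Cfsg.IrrCharacter G} {f f' : Q →* ℂˣ}, A ≠ B → A' ≠ B' →
      φ f = (A : G → ℂ) - (B : G → ℂ) → φ f' = (A' : G → ℂ) - (B' : G → ℂ) →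
      Cfsg.classInner (φ f) (φ f') = 1 → (A = A' ∧ B ≠ B') ∨ (A ≠ A' ∧ B = B') := by
    intro A B A' B' f f' hAB hA'B' e e' h
    rw [e, e', classInner_diff] at h
    have h' : ((if A = A' then 1 else 0) - (if A = B' then 1 else 0) -
        ((if B = A' then 1 else 0) - (if B = B' then 1 else 0)) : ℤ) = 1 := by exact_mod_cast h
    by_cases hA : A = A' <;> by_cases hB : B = B'
    · subst hA hB; simp [hAB, Ne.symm hAB] at h'
    · exact Or.inl ⟨hA, hB⟩
    · exact Or.inr ⟨hA, hB⟩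
    · rw [if_neg hA, if_neg hB] at h'; split_ifs at h' <;> simp_all
  -- normalise the common constituent
  obtain ⟨ε, A, hε, B₁, B₂, hne, hB₁, hB₂, hAB₁, hAB₂⟩ :
      ∃ (ε : ℂ) (A : Cfsg.IrrCharacter G), (ε = 1 ∨ ε = -1) ∧ ∃ B₁ B₂ : Cfsg.IrrCharacter G,
        B₁ ≠ B₂ ∧ φ l₁ = ε • ((A : G → ℂ) - (B₁ : G → ℂ)) ∧
        φ l₂ = ε • ((A : G → ℂ) - (B₂ : G → ℂ)) ∧ A ≠ B₁ ∧ A ≠ B₂ := by
    rcases share hab₁ hab₂ hφ₁ hφ₂ (inner1 l₁ l₂ h2 h01 h02 h12) with ⟨h, h'⟩ | ⟨h, h'⟩
    · subst h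
      exact ⟨1, a₁, Or.inl rfl, b₁, b₂, h', by simp [hφ₁], by simp [hφ₂], hab₁, hab₂⟩
    · subst h'
      exact ⟨-1, b₁, Or.inr rfl, a₁, a₂, h, by simp [hφ₁], by simp [hφ₂], hab₁.symm, hab₂.symm⟩
  have hεc : ∀ (f f' : G → ℂ), Cfsg.classInner (ε • f) (ε • f') = Cfsg.classInner f f' := by
    intro f f'
    rw [CharCore.classInner_smul_left, CharCore.classInner_smul_right]
    rcases hε with rfl | rfl <;> simp
  have hεε : ε * ε = 1 := by rcases hε with rfl | rfl <;> norm_num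
  have key : ∀ f, f ≠ 1 → ¬ Rel H l₀ f → ∃ B : Cfsg.IrrCharacter G, A ≠ B ∧
      φ f = ε • ((A : G → ℂ) - (B : G → ℂ)) := by
    intro f hf h
    obtain ⟨A', B', hA'B', hφf⟩ := diff f hf h
    obtain ⟨A', B', hA'B', hφf⟩ : ∃ A' B' : Cfsg.IrrCharacter G, A' ≠ B' ∧
        φ f = ε • ((A' : G → ℂ) - (B' : G → ℂ)) := by
      rcases hε with rfl | rfl
      · exact ⟨A', B', hA'B', by simpa using hφf⟩
      · exact ⟨B', A', hA'B'.symm, by simp [hφf]⟩
    by_cases hA : A' = A
    · subst hA; exact ⟨B', hA'B', hφf⟩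
    exfalso
    have eqcase : ∀ {l : Q →* ℂˣ} {B : Cfsg.IrrCharacter G}, l ≠ 1 → ¬ Rel H l₀ l → A ≠ B →
        φ l = ε • ((A : G → ℂ) - (B : G → ℂ)) → Rel H f l → False := by
      intro l B hl hl0 hAB hφl hrel
      have hin : Cfsg.classInner (φ f) (φ l) = 2 := by
        rw [hφ, psi_inner H h0 hl, if_pos (rel_refl H l₀), if_neg (sym _ _ hl0), if_neg h,
          if_pos (rel_symm H hrel)]
        norm_num
      rw [hφf, hφl, hεc, classInner_diff] at hin
      have h' : ((if A' = A then 1 else 0) - (if A' = B then 1 else 0) -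
          ((if B' = A then 1 else 0) - (if B' = B then 1 else 0)) : ℤ) = 2 := by exact_mod_cast hin
      rw [if_neg hA] at h'
      split_ifs at h' <;> omega
    have side : ∀ {l : Q →* ℂˣ} {B : Cfsg.IrrCharacter G}, l ≠ 1 → ¬ Rel H l₀ l → A ≠ B →
        φ l = ε • ((A : G → ℂ) - (B : G → ℂ)) → B' = B := by
      intro l B hl hl0 hAB hφl
      have hne : ¬ Rel H f l := fun hr => eqcase hl hl0 hAB hφl hr
      have hin := inner1 f l hl h hl0 hne
      rw [hφf, hφl, hεc, classInner_diff] at hin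
      have h' : ((if A' = A then 1 else 0) - (if A' = B then 1 else 0) -
          ((if B' = A then 1 else 0) - (if B' = B then 1 else 0)) : ℤ) = 1 := by exact_mod_cast hin
      rw [if_neg hA] at h'
      by_contra hBB
      rw [if_neg hBB] at h'
      split_ifs at h' <;> omega
    exact hne ((side h1 h01 hAB₁ hB₁).symm.trans (side h2 h02 hAB₂ hB₂))
  choose B hAB hB using key
  let χ : (Q →* ℂˣ) → Cfsg.IrrCharacter G := fun f =>
    if hf : f ≠ 1 ∧ ¬ Rel H l₀ f then B f hf.1 hf.2 else A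
  have hχ : ∀ f, f ≠ 1 → psi l₀ - psi f = ε • ((A : G → ℂ) - (χ f : G → ℂ)) := by
    intro f hf
    by_cases h : Rel H l₀ f
    · have hc : χ f = A := dif_neg fun hh => hh.2 h
      rw [hc, sub_self, smul_zero]
      have hn : Cfsg.classInner (φ f) (φ f) = 0 := by
        rw [hφ, psi_inner H h0 hf, if_pos (rel_refl H l₀), if_pos (rel_symm H h), if_pos h,
          if_pos (rel_refl H f)]
        norm_num
      obtain ⟨m, hm⟩ := CharCore.IsGeneralizedCharacter.exists_sum (psi_sub_generalized H l₀ f)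
      rw [hφ] at hn
      simp only at hn
      rw [hm, CharCore.classInner_sum_sum] at hn
      simp only [map_intCast] at hn
      have hn' : ∑ ψ, m ψ * m ψ = 0 := by exact_mod_cast hn
      rw [hm]
      refine Finset.sum_eq_zero fun ψ _ => ?_
      have := (Finset.sum_eq_zero_iff_of_nonneg fun i _ => mul_self_nonneg (m i)).1 hn' ψ
        (Finset.mem_univ ψ)
      rw [mul_self_eq_zero] at this
      simp [this]
    · have hc : χ f = B f hf h := dif_pos ⟨hf, h⟩
      rw [hc]; exact hB f hf h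
  refine ⟨ε, χ, hε, fun f f' hf hf' => ?_, fun f f' hf hf' => ⟨fun he => ?_, fun hr => ?_⟩⟩
  · calc psi f - psi f' = (psi l₀ - psi f') - (psi l₀ - psi f) := by abel
      _ = _ := by rw [hχ f hf, hχ f' hf', ← smul_sub]; congr 1; abel
  · have h : psi f - psi f' = 0 := by
      calc psi f - psi f' = (psi l₀ - psi f') - (psi l₀ - psi f) := by abel
        _ = 0 := by rw [hχ f hf, hχ f' hf', he, sub_self]
    have hi := psi_inner H (f₁ := f) (f₂ := f') hf hf'
    rw [h, CharCore.classInner_zero_left, if_pos (rel_refl H f), if_pos (rel_refl H f')] at hi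
    by_contra hr
    rw [if_neg hr, if_neg (sym _ _ hr)] at hi
    norm_num at hi
  · have hi := psi_inner H (f₁ := f) (f₂ := f') hf hf'
    rw [if_pos (rel_refl H f), if_pos (rel_refl H f'), if_pos hr, if_pos (rel_symm H hr)] at hi
    have h : psi f - psi f' = ε • ((χ f : G → ℂ) - (χ f' : G → ℂ)) := by
      calc psi f - psi f' = (psi l₀ - psi f') - (psi l₀ - psi f) := by abel
        _ = _ := by rw [hχ f hf, hχ f' hf', ← smul_sub]; congr 1; abel
    rw [h, hεc, classInner_diff] at hi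
    by_contra hne'
    rw [if_pos rfl, if_pos rfl, if_neg hne', if_neg (Ne.symm hne')] at hi
    norm_num at hi

end

end Cfsg.Agent.RankOne
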