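import Cfsg.Agent.Lib.PGroup.NormalRankTwo
import Cfsg.Agent.Lib.RankOne.OddOrder

/-!
An odd `p`-group acting faithfully on an elementary abelian `q`-group with all stabilisers of
non-zero vectors of the same order is cyclic and fixed-point-free.
-/

set_option autoImplicit false

namespace Cfsg.Agent.RankOne.HalfTrans

variable {P E : Type*} [Group P] [AddCommGroup E] [DistribMulAction P E]

/-- `e ↦ Σ_{j<p} a^j e`. -/
def norm' (p : ℕ) (a : P) (e : E) : E := ∑ j ∈ Finset.range p, a ^ j • e

lemma norm'_fixed {p : ℕ} {a : P} (ha : a ^ p = 1) (e : E) : a • norm' p a e = norm' p a e := by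
  unfold norm'
  rw [Finset.smul_sum]
  have : ∀ j, a • a ^ j • e = a ^ (j + 1) • e := fun j => by rw [smul_smul, pow_succ']
  simp only [this]
  have h := Finset.sum_range_succ' (fun j => a ^ j • e) p
  rw [Finset.sum_range_succ, ha, pow_zero] at h
  exact (add_right_cancel h).symm

lemma norm'_of_fixed {p : ℕ} {a : P} {e : E} (h : a • e = e) : norm' p a e = p • e := by
  have : ∀ j : ℕ, a ^ j • e = e := fun j => by
    induction j with
    | zero => rw [pow_zero, one_smul]
    | succ j ih => rw [pow_succ, mul_smul, h, ih]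
  simp [norm', this]

lemma norm'_commute {p : ℕ} {a b : P} (hab : Commute a b) (e : E) :
    b • norm' p a e = norm' p a (b • e) := by
  unfold norm'
  rw [Finset.smul_sum]
  exact Finset.sum_congr rfl fun j _ => by rw [smul_smul, smul_smul, (hab.pow_left j).eq]

lemma norm'_add {p : ℕ} (a : P) (e f : E) : norm' p a (e + f) = norm' p a e + norm' p a f := by
  simp [norm', smul_add, Finset.sum_add_distrib]

lemma norm'_norm' {p : ℕ} {a b : P} (hab : Commute a b) (e : E) :
    norm' p a (norm' p b e) = norm' p b (norm' p a e) := by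
  unfold norm'
  simp only [Finset.smul_sum, smul_smul]
  rw [Finset.sum_comm]
  exact Finset.sum_congr rfl fun i _ => Finset.sum_congr rfl fun j _ => by
    rw [((hab.pow_left j).pow_right i).eq]

/-- `p e` as a combination of vectors fixed by elements of `A ∖ {1}`. -/
lemma smul_eq_sum {p : ℕ} (hp : 0 < p) {x y : P} (hxy : Commute x y) (e : E) :
    p • e + ∑ j ∈ (Finset.range p).erase 0, x ^ j • norm' p (y ^ j) e =
      ∑ i ∈ Finset.range p, norm' p (x * y ^ i) e := by
  have : ∀ i, norm' p (x * y ^ i) e = ∑ j ∈ Finset.range p, x ^ j • (y ^ j) ^ i • e := fun i =>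
    Finset.sum_congr rfl fun j _ => by
      rw [(hxy.pow_right i).mul_pow, ← pow_mul, mul_comm i j, pow_mul, smul_smul]
  simp only [this]
  rw [Finset.sum_comm, ← Finset.add_sum_erase _ _ (Finset.mem_range.2 hp)]
  congr 1
  · simp
  · exact Finset.sum_congr rfl fun j _ => by rw [norm', Finset.smul_sum]

theorem main [Finite P] [Finite E] [FaithfulSMul P E]
    {p q : ℕ} [Fact p.Prime] (hp2 : p ≠ 2) (hP : IsPGroup p P) (hq : q.Prime)
    (hE : ∀ e : E, q • e = 0)
    (hconst : ∀ a b : E, a ≠ 0 → b ≠ 0 →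
      Nat.card (MulAction.stabilizer P a) = Nat.card (MulAction.stabilizer P b)) :
    IsCyclic P ∧ ∀ g : P, g ≠ 1 → ∀ a : E, g • a = a → a = 0 := by
  classical
  have hp : p.Prime := Fact.out
  have hodd : ∀ g : P, Odd (orderOf g) := fun g => by
    obtain ⟨k, hk⟩ := hP g
    exact (hp.odd_of_ne_two hp2).pow.of_dvd_nat (orderOf_dvd_of_pow_eq_one hk)
  rcases eq_or_ne p q with hpq | hpq
  · subst hpq
    suffices htriv : Subsingleton P by
      exact ⟨inferInstance, fun g hg => absurd (Subsingleton.elim g 1) hg⟩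
    by_cases hne : Subsingleton E
    · exact ⟨fun g h => FaithfulSMul.eq_of_smul_eq_smul (α := E) fun e => Subsingleton.elim _ _⟩
    rw [not_subsingleton_iff_nontrivial] at hne
    have hdvd : p ∣ Nat.card E := by
      obtain ⟨e, he⟩ := exists_ne (0 : E)
      have h1 : addOrderOf e = p := by
        rcases (Nat.dvd_prime hp).1 (addOrderOf_dvd_of_nsmul_eq_zero (hE e)) with h | h
        · exact absurd (AddMonoid.addOrderOf_eq_one_iff.1 h) he
        · exact h
      exact h1 ▸ addOrderOf_dvd_natCard e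
    obtain ⟨a, ha, ha0⟩ := hP.exists_fixed_point_of_prime_dvd_card_of_fixed_point (α := E) hdvd
      (a := (0 : E)) (fun g => smul_zero g)
    have htop : MulAction.stabilizer P a = ⊤ := eq_top_iff.2 fun g _ => ha g
    have hall : ∀ e : E, MulAction.stabilizer P e = ⊤ := by
      intro e
      by_cases he : e = 0
      · subst he; exact eq_top_iff.2 fun g _ => smul_zero g
      refine Subgroup.eq_top_of_card_eq _ ?_
      rw [hconst e a he (Ne.symm ha0), htop, Subgroup.card_top]
    refine ⟨fun g h => FaithfulSMul.eq_of_smul_eq_smul (α := E) fun e => ?_⟩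
    rw [(MulAction.mem_stabilizer_iff.1 (hall e ▸ Subgroup.mem_top g : g ∈ _)),
      (MulAction.mem_stabilizer_iff.1 (hall e ▸ Subgroup.mem_top h : h ∈ _))]
  -- `p` is invertible on `E`
  have hcop : Nat.Coprime q p := (Nat.coprime_primes hq hp).2 (Ne.symm hpq)
  have hinj : ∀ e f : E, p • e = p • f → e = f := by
    intro e f h
    rw [← sub_eq_zero]
    have h1 : p • (e - f) = 0 := by rw [nsmul_sub, h, sub_self]
    have h2 := Nat.dvd_gcd (addOrderOf_dvd_of_nsmul_eq_zero (hE (e - f)))
      (addOrderOf_dvd_of_nsmul_eq_zero h1)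
    rw [hcop.gcd_eq_one] at h2
    exact AddMonoid.addOrderOf_eq_one_iff.1 (Nat.dvd_one.1 h2)
  obtain ⟨c, hc⟩ : ∃ c : ℕ, ∀ e : E, c • p • e = e := by
    obtain ⟨c, -, hc⟩ := Nat.exists_mul_mod_eq_one_of_coprime hcop.symm hq.one_lt
    refine ⟨c, fun e => ?_⟩
    rw [← mul_nsmul, ← Nat.mod_add_div (p * c) q, hc, add_nsmul, one_nsmul, mul_nsmul, hE,
      nsmul_zero, add_zero]
  -- central elements act without fixed points
  have hcent : ∀ z : P, z ∈ Subgroup.center P → z ^ p = 1 → z ≠ 1 → ∀ e : E, z • e = e → e = 0 := by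
    intro z hz hzp hz1 a ha
    by_contra ha0
    have hcomm : ∀ g : P, Commute z g := fun g => (Subgroup.mem_center_iff.1 hz g).symm
    obtain ⟨f, hf⟩ : ∃ f : E, z • f ≠ f := by
      by_contra hall
      push Not at hall
      exact hz1 (FaithfulSMul.eq_of_smul_eq_smul (α := E) fun e => by rw [hall, one_smul])
    set b := f - c • norm' p z f with hb
    have hNb : norm' p z b = 0 := by
      have e1 : norm' p z f = norm' p z b + norm' p z (c • norm' p z f) := by
        rw [← norm'_add, hb, sub_add_cancel]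
      rw [norm'_of_fixed (a := z) (e := c • norm' p z f) (by rw [smul_comm, norm'_fixed hzp]),
        smul_comm p c, hc] at e1
      simpa using e1
    have hb0 : b ≠ 0 := by
      intro h
      rw [hb, sub_eq_zero] at h
      apply hf
      rw [h, smul_comm, norm'_fixed hzp]
    have hzb : z • b ≠ b := fun h => hb0 (hinj _ _ (by rw [← norm'_of_fixed h, hNb, smul_zero]))
    have hab : a + b ≠ 0 := by
      intro h
      apply hzb
      rw [eq_neg_of_add_eq_zero_right h, smul_neg, ha]
    have hle : MulAction.stabilizer P (a + b) ≤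
        MulAction.stabilizer P a ⊓ MulAction.stabilizer P b := by
      intro g hg
      rw [MulAction.mem_stabilizer_iff] at hg
      have hga : g • a = a := by
        have h := congrArg (norm' p z) hg
        rw [smul_add, norm'_add, norm'_add, ← norm'_commute (hcomm g), ← norm'_commute (hcomm g),
          hNb, smul_zero, add_zero, add_zero, norm'_of_fixed ha, smul_comm] at h
        exact hinj _ _ h
      rw [smul_add, hga] at hg
      exact ⟨hga, add_left_cancel hg⟩
    have h1 : MulAction.stabilizer P (a + b) = MulAction.stabilizer P a :=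
      Subgroup.eq_of_le_of_card_ge (hle.trans inf_le_left) (hconst a (a + b) ha0 hab).le
    have h2 : MulAction.stabilizer P (a + b) = MulAction.stabilizer P b :=
      Subgroup.eq_of_le_of_card_ge (hle.trans inf_le_right) (hconst b (a + b) hb0 hab).le
    have : z ∈ MulAction.stabilizer P b := h2 ▸ h1 ▸ MulAction.mem_stabilizer_iff.2 ha
    exact hzb this
  suffices hcyc : IsCyclic P by
    refine ⟨hcyc, fun g hg a ha => ?_⟩
    letI := hcyc.commGroup
    have hord : orderOf g ≠ 1 := fun h => hg (orderOf_eq_one_iff.1 h)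
    obtain ⟨k, hk⟩ := hP g
    have hpd : p ∣ orderOf g := by
      obtain ⟨i, -, hi⟩ := (Nat.dvd_prime_pow hp).1 (orderOf_dvd_of_pow_eq_one hk)
      rcases Nat.eq_zero_or_pos i with h0 | h0
      · exact absurd (by rw [hi, h0, pow_zero]) hord
      · exact hi ▸ dvd_pow_self p h0.ne'
    refine hcent (g ^ (orderOf g / p)) (Subgroup.mem_center_iff.2 fun x => mul_comm x _) ?_ ?_ a ?_
    · rw [← pow_mul, Nat.div_mul_cancel hpd, pow_orderOf_eq_one]
    · intro h
      have hlt : orderOf g / p < orderOf g := Nat.div_lt_self (orderOf_pos g) hp.one_lt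
      have hpos : 0 < orderOf g / p := Nat.div_pos (Nat.le_of_dvd (orderOf_pos g) hpd) hp.pos
      exact pow_ne_one_of_lt_orderOf hpos.ne' hlt h
    · exact (MulAction.mem_stabilizer_iff.1 (pow_mem (MulAction.mem_stabilizer_iff.2 ha) _))
  by_contra hnc
  obtain ⟨A, hAn, hAc, hAp, hAcard⟩ := PGroup.exists_normal_elementary_sq hP hp2 hnc
  have hAcomm : ∀ a ∈ A, ∀ b ∈ A, Commute a b := fun a ha b hb =>
    congrArg Subtype.val (hAc.is_comm.comm (⟨a, ha⟩ : A) ⟨b, hb⟩)
  have hord : ∀ a ∈ A, a ≠ 1 → orderOf a = p := fun a ha h1 => orderOf_eq_prime (hAp a ha) h1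
  -- no vector is fixed by all of `A`
  have hAfix : ∀ e : E, (∀ a ∈ A, a • e = e) → e = 0 := by
    have hAne : A ≠ ⊥ := by
      intro h
      rw [h, Subgroup.card_bot] at hAcard
      nlinarith [hp.two_le]
    haveI : Nontrivial A := (Subgroup.nontrivial_iff_ne_bot A).2 hAne
    haveI : A.Normal := hAn
    letI : MulAction P A :=
      { smul := fun g x => ⟨g * x * g⁻¹, hAn.conj_mem x x.2 g⟩
        one_smul := fun x => Subtype.ext (by show (1 : P) * x * 1⁻¹ = x; simp)
        mul_smul := fun g h x => Subtype.ext (by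
          show g * h * x * (g * h)⁻¹ = g * (h * x * h⁻¹) * g⁻¹; group) }
    obtain ⟨z, hz, hz1⟩ := hP.exists_fixed_point_of_prime_dvd_card_of_fixed_point (α := A)
      (hAcard ▸ dvd_pow_self p two_ne_zero) (a := (1 : A))
      (fun g => Subtype.ext (by show g * (1 : P) * g⁻¹ = 1; simp))
    intro e he
    refine hcent z (Subgroup.mem_center_iff.2 fun g => ?_) (hAp z z.2)
      (fun h => hz1 (Subtype.ext h.symm)) e (he z z.2)
    exact mul_inv_eq_iff_eq_mul.1 (congrArg Subtype.val (hz g) : g * (z : P) * g⁻¹ = z)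
  -- fixed vectors of independent elements
  have hindep : ∀ a ∈ A, ∀ b ∈ A, a ≠ 1 → b ∉ Subgroup.zpowers a → ∀ e : E, a • e = e → b • e = e →
      e = 0 := by
    intro a ha b hb ha1 hba e hea heb
    refine hAfix e fun x hx => ?_
    have hsup : Subgroup.zpowers a ⊔ Subgroup.zpowers b = A := by
      refine Subgroup.eq_of_le_of_card_ge
        (sup_le (Subgroup.zpowers_le.2 ha) (Subgroup.zpowers_le.2 hb)) ?_
      set S := Subgroup.zpowers a ⊔ Subgroup.zpowers b
      have h1 : Nat.card S ∣ p ^ 2 := hAcard ▸ Subgroup.card_dvd_of_le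
        (sup_le (Subgroup.zpowers_le.2 ha) (Subgroup.zpowers_le.2 hb))
      obtain ⟨i, hi, hSi⟩ := (Nat.dvd_prime_pow hp).1 h1
      rw [hAcard, hSi]
      refine Nat.pow_le_pow_right hp.pos ?_
      by_contra hi2
      have hS : Nat.card S ∣ Nat.card (Subgroup.zpowers a) := by
        rw [hSi, Nat.card_zpowers, hord a ha ha1]
        calc p ^ i ∣ p ^ 1 := Nat.pow_dvd_pow p (by omega)
          _ = p := pow_one p
      have : Subgroup.zpowers a = S :=
        Subgroup.eq_of_le_of_card_ge le_sup_left (Nat.le_of_dvd Nat.card_pos hS)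
      exact hba (this ▸ Subgroup.mem_sup_right (Subgroup.mem_zpowers b))
    have hle : A ≤ MulAction.stabilizer P e := hsup ▸ sup_le
      (Subgroup.zpowers_le.2 hea) (Subgroup.zpowers_le.2 heb)
    exact hle hx
  have hswap : ∀ a ∈ A, ∀ b ∈ A, a ≠ 1 → b ≠ 1 → b ∈ Subgroup.zpowers a →
      a ∈ Subgroup.zpowers b := by
    intro a ha b hb ha1 hb1 hba
    have : Subgroup.zpowers b = Subgroup.zpowers a :=
      Subgroup.eq_of_le_of_card_ge (Subgroup.zpowers_le.2 hba)
        (by rw [Nat.card_zpowers, Nat.card_zpowers, hord a ha ha1, hord b hb hb1])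
    exact this ▸ Subgroup.mem_zpowers a
  have hproj : ∀ a ∈ A, ∀ b ∈ A, a ≠ 1 → b ≠ 1 → b ∉ Subgroup.zpowers a → ∀ e : E, b • e = e →
      norm' p a e = 0 := fun a ha b hb ha1 hb1 hba e he =>
    hindep a ha b hb ha1 hba _ (norm'_fixed (hAp a ha) e)
      (by rw [norm'_commute (hAcomm a ha b hb), he])
  have hfixnorm : ∀ a : P, ∀ e : E, a • e = e → ∀ x ∈ Subgroup.zpowers a, x • e = e :=
    fun a e he x hx => (Subgroup.zpowers_le.2 (MulAction.mem_stabilizer_iff.2 he)) hx
  -- stabilisers of eigenvectors of independent elements agree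
  have hstab : ∀ a ∈ A, ∀ b ∈ A, a ≠ 1 → b ≠ 1 → b ∉ Subgroup.zpowers a → ∀ u v : E, u ≠ 0 →
      v ≠ 0 → a • u = u → b • v = v → MulAction.stabilizer P u = MulAction.stabilizer P v := by
    intro a ha b hb ha1 hb1 hba u v hu hv hau hbv
    have hab' : a ∉ Subgroup.zpowers b := fun h => hba (hswap b hb a ha hb1 ha1 h)
    have hNav : norm' p a v = 0 := hproj a ha b hb ha1 hb1 hba v hbv
    have hNbu : norm' p b u = 0 := hproj b hb a ha hb1 ha1 hab' u hau
    have huv : u + v ≠ 0 := by
      intro h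
      have := congrArg (norm' p a) h
      rw [norm'_add, hNav, add_zero, norm'_of_fixed hau, norm'_of_fixed (smul_zero a),
        smul_zero] at this
      exact hu (hinj _ _ (this.trans (smul_zero p).symm))
    have hle : MulAction.stabilizer P (u + v) ≤
        MulAction.stabilizer P u ⊓ MulAction.stabilizer P v := by
      intro g hg
      rw [MulAction.mem_stabilizer_iff, smul_add] at hg
      have hga : g * a * g⁻¹ ∈ A := hAn.conj_mem a ha g
      have hgb : g * b * g⁻¹ ∈ A := hAn.conj_mem b hb g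
      have hga1 : g * a * g⁻¹ ≠ 1 := fun h => ha1 (conj_eq_one_iff.1 h)
      have hgb1 : g * b * g⁻¹ ≠ 1 := fun h => hb1 (conj_eq_one_iff.1 h)
      have hgu : (g * a * g⁻¹) • g • u = g • u := by rw [mul_smul, inv_smul_smul, mul_smul, hau]
      have hgv : (g * b * g⁻¹) • g • v = g • v := by rw [mul_smul, inv_smul_smul, mul_smul, hbv]
      have hA0 := congrArg (norm' p a) hg
      rw [norm'_add, norm'_add, hNav, add_zero, norm'_of_fixed hau] at hA0
      by_cases h1 : g * a * g⁻¹ ∈ Subgroup.zpowers a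
      · have h1' : g * b * g⁻¹ ∉ Subgroup.zpowers a := by
          intro h2
          have hmap : (Subgroup.zpowers a).map (MulAut.conj g).toMonoidHom = Subgroup.zpowers a :=
            Subgroup.eq_of_le_of_card_ge
              (by rw [MonoidHom.map_zpowers, Subgroup.zpowers_le]; exact h1)
              (Subgroup.card_map_of_injective (MulEquiv.injective (MulAut.conj g))).ge
          rw [← hmap] at h2
          obtain ⟨x, hx, hxe⟩ := h2
          exact hba ((MulAut.conj g).injective hxe ▸ hx)
        rw [norm'_of_fixed (hfixnorm _ _ hgu a (hswap a ha _ hga ha1 hga1 h1)),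
          hproj a ha _ hgb ha1 hgb1 h1' _ hgv, add_zero] at hA0
        have hu' := hinj _ _ hA0
        rw [hu'] at hg
        exact ⟨hu', add_left_cancel hg⟩
      · exfalso
        rw [hproj a ha _ hga ha1 hga1 h1 _ hgu, zero_add] at hA0
        by_cases h2 : g * b * g⁻¹ ∈ Subgroup.zpowers a
        · -- `g` maps `b` into `⟨a⟩`, so `g a g⁻¹` must lie in `⟨b⟩`
          have hB0 := congrArg (norm' p b) hg
          rw [norm'_add, norm'_add, hNbu, zero_add, norm'_of_fixed hbv] at hB0
          have h3 : g * b * g⁻¹ ∉ Subgroup.zpowers b := fun h3 => by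
            have h4 := hswap a ha _ hgb ha1 hgb1 h2
            have h5 : a ∈ Subgroup.zpowers b := (Subgroup.zpowers_le.2 h3) h4
            exact hab' h5
          rw [hproj b hb _ hgb hb1 hgb1 h3 _ hgv, add_zero] at hB0
          have h6 : g * a * g⁻¹ ∈ Subgroup.zpowers b := by
            by_contra h6
            rw [hproj b hb _ hga hb1 hga1 h6 _ hgu] at hB0
            exact hv (hinj _ _ (hB0.symm.trans (smul_zero p).symm))
          -- so `g * g` normalises `⟨a⟩`, hence so does `g`
          have h7 : (g * g) * a * (g * g)⁻¹ ∈ Subgroup.zpowers a := by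
            obtain ⟨i, hi⟩ := Subgroup.mem_zpowers_iff.1 h6
            have : (g * g) * a * (g * g)⁻¹ = (g * b * g⁻¹) ^ i := by
              rw [conj_zpow, hi]; group
            rw [this]
            exact zpow_mem h2 i
          have h8 : g * g ∈ Subgroup.normalizer (Subgroup.zpowers a : Set P) := by
            rw [Subgroup.mem_normalizer_iff_map_conj_eq]
            exact Subgroup.eq_of_le_of_card_ge
              (by rw [MonoidHom.map_zpowers, Subgroup.zpowers_le]; exact h7)
              (Subgroup.card_map_of_injective (MulEquiv.injective (MulAut.conj (g * g)))).ge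
          have h9 : g ∈ Subgroup.normalizer (Subgroup.zpowers a : Set P) := by
            have h10 := pow_mem h8 ((orderOf g + 1) / 2)
            rw [← pow_two, ← pow_mul] at h10
            obtain ⟨m, hm⟩ := hodd g
            rwa [show 2 * ((orderOf g + 1) / 2) = orderOf g + 1 by omega, pow_succ,
              pow_orderOf_eq_one, one_mul] at h10
          exact h1 ((Subgroup.mem_normalizer_iff.1 h9 a).1 (Subgroup.mem_zpowers a))
        · rw [hproj a ha _ hgb ha1 hgb1 h2 _ hgv] at hA0
          exact hu (hinj _ _ (hA0.symm.trans (smul_zero p).symm))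
    have h1 : MulAction.stabilizer P (u + v) = MulAction.stabilizer P u :=
      Subgroup.eq_of_le_of_card_ge (hle.trans inf_le_left) (hconst u (u + v) hu huv).le
    have h2 : MulAction.stabilizer P (u + v) = MulAction.stabilizer P v :=
      Subgroup.eq_of_le_of_card_ge (hle.trans inf_le_right) (hconst v (u + v) hv huv).le
    exact h1.symm.trans h2
  -- generators of `A`
  obtain ⟨x, hxA, hx1⟩ : ∃ x ∈ A, x ≠ 1 := by
    by_contra h
    push Not at h
    rw [(Subgroup.eq_bot_iff_forall A).2 h, Subgroup.card_bot] at hAcard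
    nlinarith [hp.two_le]
  obtain ⟨y, hyA, hyx⟩ : ∃ y ∈ A, y ∉ Subgroup.zpowers x := by
    by_contra h
    push Not at h
    have := Subgroup.card_le_of_le (show A ≤ Subgroup.zpowers x from h)
    rw [hAcard, Nat.card_zpowers, hord x hxA hx1] at this
    nlinarith [hp.two_le]
  have hy1 : y ≠ 1 := fun h => hyx (h ▸ one_mem _)
  have hxy := hAcomm x hxA y hyA
  -- if all eigenvectors of elements of `A` are fixed by `g`, then `g = 1`
  have hgen : ∀ g : P, (∀ a ∈ A, a ≠ 1 → ∀ u : E, a • u = u → g • u = u) → g = 1 := by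
    intro g hg
    refine FaithfulSMul.eq_of_smul_eq_smul (α := E) fun e => ?_
    rw [one_smul]
    have hid := smul_eq_sum hp.pos hxy e
    have h1 : g • (∑ i ∈ Finset.range p, norm' p (x * y ^ i) e) =
        ∑ i ∈ Finset.range p, norm' p (x * y ^ i) e := by
      rw [Finset.smul_sum]
      refine Finset.sum_congr rfl fun i _ => hg (x * y ^ i) (mul_mem hxA (pow_mem hyA i))
        (fun h => hyx ?_) _ (norm'_fixed (hAp _ (mul_mem hxA (pow_mem hyA i))) e)
      by_contra _
      rw [mul_eq_one_iff_eq_inv] at h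
      have hxy' : x ∈ Subgroup.zpowers y := h ▸ inv_mem (Subgroup.npow_mem_zpowers y i)
      exact hyx (hswap y hyA x hxA hy1 hx1 hxy')
    have h2 : g • (∑ j ∈ (Finset.range p).erase 0, x ^ j • norm' p (y ^ j) e) =
        ∑ j ∈ (Finset.range p).erase 0, x ^ j • norm' p (y ^ j) e := by
      rw [Finset.smul_sum]
      refine Finset.sum_congr rfl fun j hj => ?_
      simp only [Finset.mem_erase, Finset.mem_range] at hj
      refine hg (y ^ j) (pow_mem hyA j) ?_ _ ?_
      · exact pow_ne_one_of_lt_orderOf hj.1 (by rw [hord y hyA hy1]; exact hj.2)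
      · rw [smul_smul, ((hxy.pow_left j).pow_right j).symm.eq, mul_smul,
          norm'_fixed (hAp _ (pow_mem hyA j))]
    refine hinj _ _ ?_
    have := congrArg (g • ·) hid
    simp only [smul_add, h1, h2] at this
    rw [← hid] at this
    rw [← smul_comm]
    exact add_right_cancel this
  -- two independent eigenvectors
  obtain ⟨a₀, ha₀A, ha₀1, u₀, hu₀, hau₀⟩ : ∃ a ∈ A, a ≠ 1 ∧ ∃ u : E, u ≠ 0 ∧ a • u = u := by
    by_contra h
    push Not at h
    have hall : ∀ a ∈ A, a ≠ 1 → ∀ u : E, a • u = u → u = 0 := fun a ha ha1 u hu =>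
      by_contra fun hu0 => h a ha ha1 u hu0 hu
    exact hx1 (hgen x fun a ha ha1 u hu => by rw [hall a ha ha1 u hu, smul_zero])
  obtain ⟨a₁, ha₁A, ha₁1, ha₁, u₁, hu₁, hau₁⟩ : ∃ a ∈ A, a ≠ 1 ∧ a ∉ Subgroup.zpowers a₀ ∧
      ∃ u : E, u ≠ 0 ∧ a • u = u := by
    by_contra h
    push Not at h
    refine ha₀1 (hgen a₀ fun a ha ha1 u hu => ?_)
    by_cases hu0 : u = 0
    · rw [hu0, smul_zero]
    by_cases hmem : a ∈ Subgroup.zpowers a₀
    · exact hfixnorm a u hu a₀ (hswap a₀ ha₀A a ha ha₀1 ha1 hmem)
    · exact absurd hu (h a ha ha1 hmem u hu0)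
  have heq := hstab a₀ ha₀A a₁ ha₁A ha₀1 ha₁1 ha₁ u₀ u₁ hu₀ hu₁ hau₀ hau₁
  refine ha₀1 (hgen a₀ fun a ha ha1 u hu => ?_)
  by_cases hu0 : u = 0
  · rw [hu0, smul_zero]
  have : MulAction.stabilizer P u = MulAction.stabilizer P u₀ := by
    by_cases hmem : a ∈ Subgroup.zpowers a₀
    · have hna : a₁ ∉ Subgroup.zpowers a := fun h => ha₁ (Subgroup.zpowers_le.2 hmem h)
      rw [hstab a ha a₁ ha₁A ha1 ha₁1 hna u u₁ hu0 hu₁ hu hau₁, heq]
    · exact (hstab a₀ ha₀A a ha ha₀1 ha1 hmem u₀ u hu₀ hu0 hau₀ hu).symm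
  exact MulAction.mem_stabilizer_iff.1 (this ▸ MulAction.mem_stabilizer_iff.2 hau₀)

end Cfsg.Agent.RankOne.HalfTrans
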