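import Cfsg.Agent.Lib.RankOne.Fixed
import Cfsg.Agent.Lib.Frobenius.Nilpotent

/-!
With at least two involutions in `G_a`: the regular normal subgroup is nilpotent, its involutions
are central, and products of involutions with different fixed points have centralisers of odd order.
-/

set_option autoImplicit false

namespace Cfsg.Agent.RankOne

open MulAction

universe u v

variable {G : Type u} {Ω : Type v} [Group G] [Finite G] [MulAction G Ω] {a : Ω} {t : G}
  {Q : Subgroup G}

section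
variable (hS : Cfsg.IsRankOneSetup G Ω a t Q)
include hS

lemma inverted_pow {x : G} (hx : x ∈ Cfsg.invertedBy (twoStab G a t) t) (j : ℕ) :
    x ^ j ∈ Cfsg.invertedBy (twoStab G a t) t :=
  ⟨pow_mem hx.1 j, by rw [← conj_pow, hx.2, inv_pow]⟩

lemma inverted_fpf {x q : G} (hx : x ∈ Cfsg.invertedBy (twoStab G a t) t) (hx1 : x ≠ 1)
    (hq : q ∈ Q) (hc : x * q = q * x) : q = 1 := by
  by_contra hq1
  have hf : x • q • t • a = q • t • a := by
    rw [← mul_smul, hc, mul_smul, (Subgroup.mem_inf.1 hx.1).2]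
  exact hx1 (inverted_eq_one_of_fix hS hx (smul_Q_ne hS hq (ta_ne hS))
    (fun e => hq1 (Q_fix_unique hS hq (ta_ne hS) e)) hf)

lemma exists_inverted_ne_one
    (h2 : ∃ x y : G, x ≠ 1 ∧ y ≠ 1 ∧ x ≠ y ∧ x * x = 1 ∧ y * y = 1 ∧ x * y = y * x) :
    ∃ x ∈ Cfsg.invertedBy (twoStab G a t) t, x ≠ 1 := by
  obtain ⟨s, hs, s', hs', hne, -⟩ := exists_two_invol hS h2
  obtain ⟨k, hk, hks⟩ := inverted_transitive hS hs hs'
  exact ⟨k, hk, fun h => hne (by rw [← hks, h, inv_one, one_mul, mul_one])⟩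

theorem isNilpotent_Q
    (h2 : ∃ x y : G, x ≠ 1 ∧ y ≠ 1 ∧ x ≠ y ∧ x * x = 1 ∧ y * y = 1 ∧ x * y = y * x) :
    Group.IsNilpotent Q := by
  obtain ⟨x, hx, hx1⟩ := exists_inverted_ne_one hS h2
  obtain ⟨p, hp, hpd⟩ := Nat.exists_prime_and_dvd (fun h => hx1 (orderOf_eq_one_iff.1 h))
  set y := x ^ (orderOf x / p) with hy
  have hyK := inverted_pow hS hx (orderOf x / p)
  have hord : orderOf y = p := by
    rw [hy, orderOf_pow, Nat.gcd_eq_right (Nat.div_dvd_of_dvd hpd),
      Nat.div_div_self hpd (orderOf_pos x).ne']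
  have hy1 : y ≠ 1 := fun h => hp.one_lt.ne' (by rw [← hord, h, orderOf_one])
  have hyn : y ∈ Subgroup.normalizer (Q : Set G) := twoStab_le_normalizer hS hyK.1
  set φ : Q ≃* Q := Q.normalizerMonoidHom ⟨y, hyn⟩ with hφ
  have happ : ∀ q : Q, ((φ q : Q) : G) = y * q * y⁻¹ := fun q => rfl
  have hyp : y ^ p = 1 := hord ▸ pow_orderOf_eq_one y
  refine Cfsg.Agent.Frobenius.isNilpotent_of_fixedPointFree Q φ (fun q hq => ?_) hp ?_
  · have h := happ q
    rw [hq] at h
    refine Subtype.ext (inverted_fpf hS hyK hy1 q.2 ?_)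
    calc y * q = (y * q * y⁻¹) * y := by group
      _ = _ := by rw [← h]
  · rw [hφ, ← map_pow]
    exact (congrArg Q.normalizerMonoidHom
      (Subtype.ext (by simp [hyp]) : (⟨y, hyn⟩ : Subgroup.normalizer (Q : Set G)) ^ p = 1)).trans
      (map_one _)

/-- Every involution fixing `a` is central in `Q`. -/
theorem invol_central
    (h2 : ∃ x y : G, x ≠ 1 ∧ y ≠ 1 ∧ x ≠ y ∧ x * x = 1 ∧ y * y = 1 ∧ x * y = y * x)
    {s : G} (hs : IsInv s) (hsa : s • a = a) {x : G} (hx : x ∈ Q) : s * x = x * s := by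
  haveI := isNilpotent_Q hS h2
  obtain ⟨z, hzc, hz⟩ : ∃ z ∈ Subgroup.center Q, orderOf z = 2 := by
    haveI : Fact (Nat.Prime 2) := ⟨Nat.prime_two⟩
    obtain ⟨P⟩ : Nonempty (Sylow 2 Q) := inferInstance
    haveI : Nontrivial P := by
      rw [← Finite.one_lt_card_iff_nontrivial]
      have hd : 2 ∣ Nat.card P := by
        rw [Sylow.card_eq_multiplicity]
        exact dvd_pow_self 2
          (Nat.Prime.factorization_pos_of_dvd Nat.prime_two Nat.card_pos.ne'
            (even_iff_two_dvd.1 hS.even_card)).ne'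
      exact lt_of_lt_of_le one_lt_two (Nat.le_of_dvd Nat.card_pos hd)
    haveI : Nontrivial (Subgroup.center P) := P.2.center_nontrivial
    obtain ⟨z, hz⟩ := exists_prime_orderOf_dvd_card' (G := Subgroup.center P) 2
      (by
        obtain ⟨m, hm, hm'⟩ := (P.2.to_subgroup _).nontrivial_iff_card.1
          (inferInstance : Nontrivial (Subgroup.center P))
        rw [hm']; exact dvd_pow_self 2 hm.ne')
    refine ⟨((z : P) : Q), ?_, by rw [Subgroup.orderOf_coe, Subgroup.orderOf_coe, hz]⟩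
    rw [Subgroup.mem_center_iff]
    intro g
    have hcent := commute_center_sylow P z g
    exact hcent
  have hzi : IsInv ((z : Q) : G) :=
    ⟨fun h => by rw [OneMemClass.coe_eq_one] at h; rw [h, orderOf_one] at hz; omega,
      by
        have h := pow_orderOf_eq_one z
        rw [hz, pow_two] at h
        exact congrArg Subtype.val h⟩
  obtain ⟨d, hd, hds⟩ := twoStab_transitive hS hzi (Q_fix_a hS z.2) hs hsa
  have hx' : d⁻¹ * x * d ∈ Q := by
    simpa using hS.conj_mem d⁻¹ (inv_mem (Subgroup.mem_inf.1 hd).1) x hx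
  have hc : (z : G) * (d⁻¹ * x * d) = (d⁻¹ * x * d) * z :=
    (congrArg Subtype.val (Subgroup.mem_center_iff.1 hzc ⟨_, hx'⟩)).symm
  rw [← hds]
  calc d * z * d⁻¹ * x = d * ((z : G) * (d⁻¹ * x * d)) * d⁻¹ := by group
    _ = _ := by rw [hc]; group
where
  commute_center_sylow {N : Type u} [Group N] [Finite N] [Group.IsNilpotent N] [Fact (Nat.Prime 2)]
      (P : Sylow 2 N) (z : Subgroup.center P) (g : N) : g * ((z : P) : N) = ((z : P) : N) * g := by
    have hsyl : ∀ {q : ℕ} [Fact q.Prime] (R : Sylow q N), (R : Subgroup N).Normal := fun {q} _ R =>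
      R.normal_of_normalizerCondition Group.normalizerCondition_of_isNilpotent
    set C := Subgroup.centralizer ({((z : P) : N)} : Set N) with hC
    suffices h : C = ⊤ from Subgroup.mem_centralizer_singleton_iff.1 (h ▸ Subgroup.mem_top g : g ∈ C)
    apply Subgroup.eq_top_of_card_eq
    apply Nat.dvd_antisymm (Subgroup.card_subgroup_dvd_card C)
    rw [Nat.dvd_iff_prime_pow_dvd_dvd]
    intro q k hq hdvd
    haveI := Fact.mk hq
    obtain ⟨R⟩ : Nonempty (Sylow q N) := inferInstance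
    have hk : q ^ k ∣ Nat.card R := R.pow_dvd_card_of_pow_dvd_card hdvd
    refine hk.trans (Subgroup.card_dvd_of_le fun r hr => Subgroup.mem_centralizer_singleton_iff.2 ?_)
    rcases eq_or_ne q 2 with rfl | hq2
    · have : R = P := by
        haveI := Sylow.unique_of_normal R (hsyl R)
        exact Subsingleton.elim _ _
      subst this
      exact congrArg Subtype.val (Subgroup.mem_center_iff.1 z.2 ⟨r, hr⟩)
    · exact (Subgroup.commute_of_normal_of_disjoint _ _ (hsyl R) (hsyl P)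
        (IsPGroup.disjoint_of_ne q 2 hq2 _ _ R.2 P.2) r _ hr (z : P).2).eq

theorem invol_mul
    (h2 : ∃ x y : G, x ≠ 1 ∧ y ≠ 1 ∧ x ≠ y ∧ x * x = 1 ∧ y * y = 1 ∧ x * y = y * x)
    {s s' : G} (hs : s ∈ Cfsg.involutionsIn (stabilizer G a : Set G))
    (hs' : s' ∈ Cfsg.involutionsIn (stabilizer G a : Set G)) :
    s * s' = 1 ∨ s * s' ∈ Cfsg.involutionsIn (stabilizer G a : Set G) := by
  refine (em (s * s' = 1)).imp_right fun h => ⟨mul_mem hs.1 hs'.1, h, ?_⟩
  have hc := invol_central hS h2 ⟨hs.2.1, hs.2.2⟩ hs.1 (invol_mem_Q hS ⟨hs'.2.1, hs'.2.2⟩ hs'.1)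
  calc s * s' * (s * s') = s * (s' * s) * s' := by group
    _ = 1 := by rw [← hc, ← mul_assoc, hs.2.2, one_mul, hs'.2.2]

theorem strongly_real
    (h2 : ∃ x y : G, x ≠ 1 ∧ y ≠ 1 ∧ x ≠ y ∧ x * x = 1 ∧ y * y = 1 ∧ x * y = y * x)
    {u v : G} (hu : IsInv u) (hv : IsInv v) (hx : (u * v) * (u * v) ≠ 1) :
    (∃ g : G, ∃ u' ∈ Cfsg.involutionsIn (stabilizer G a : Set G), g * (u * v) * g⁻¹ = u' * t) ∧
      Odd (Nat.card ↥(Subgroup.centralizer {u * v})) := by
  haveI := pretransitive hS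
  obtain ⟨c, hc⟩ := exists_fixed hS hu
  have hvc : v • c ≠ c := by
    intro hvc
    apply hx
    obtain ⟨g, hg⟩ := exists_smul_eq G c a
    have hgc : g⁻¹ • a = c := by rw [inv_smul_eq_iff, hg]
    have h1 : (g * u * g⁻¹) • a = a := by rw [mul_smul, mul_smul, hgc, hc, hg]
    have h1' : (g * v * g⁻¹) • a = a := by rw [mul_smul, mul_smul, hgc, hvc, hg]
    rcases invol_mul hS h2 ⟨h1, (hu.conj g).1, (hu.conj g).2⟩ ⟨h1', (hv.conj g).1, (hv.conj g).2⟩
      with h | h
    · have : u * v = 1 := by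
        calc u * v = g⁻¹ * (g * u * g⁻¹ * (g * v * g⁻¹)) * g := by group
          _ = 1 := by rw [h]; group
      rw [this, one_mul]
    · calc u * v * (u * v) = g⁻¹ * ((g * u * g⁻¹ * (g * v * g⁻¹)) * (g * u * g⁻¹ * (g * v * g⁻¹))) * g
          := by group
        _ = 1 := by rw [h.2.2]; group
  have hodd := odd_mul hS hu hv hc hvc
  obtain ⟨g, hgc⟩ := exists_smul_eq G c a
  set u₁ := g * u * g⁻¹ with hu₁
  set v₁ := g * v * g⁻¹ with hv₁
  have hgc' : g⁻¹ • a = c := by rw [inv_smul_eq_iff, hgc]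
  have hu₁a : u₁ • a = a := by rw [hu₁, mul_smul, mul_smul, hgc', hc, hgc]
  have hv₁a : v₁ • a ≠ a := by
    rw [hv₁, mul_smul, mul_smul, hgc']
    intro h
    exact hvc (smul_left_cancel g (h.trans hgc.symm))
  obtain ⟨q, hq, hqa⟩ := regular' hS hv₁a
  set v₂ := q⁻¹ * v₁ * q with hv₂
  have hv₂i : IsInv v₂ := by simpa [hv₂] using (hv.conj g).conj q⁻¹
  have hv₂a : v₂ • a = t • a := by
    rw [hv₂, mul_smul, mul_smul, Q_fix_a hS hq, inv_smul_eq_iff, hqa]
  obtain ⟨w, -, hw1, -, hw3⟩ := swap_conj hS hv₂i (t_isInv hS) (p := a)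
    (by rw [hv₂a]; exact ta_ne hS) hv₂a.symm
  set h := w * q⁻¹ * g with hh
  have hu' : (h * u * h⁻¹) • a = a := by
    have : h * u * h⁻¹ = w * (q⁻¹ * u₁ * q) * w⁻¹ := by rw [hh, hu₁]; group
    rw [this, mul_smul, mul_smul, mul_smul, mul_smul, inv_smul_eq_iff.2 hw1.symm, Q_fix_a hS hq,
      hu₁a, Q_fix_a hS (inv_mem hq), hw1]
  have hv' : h * v * h⁻¹ = t := by
    rw [← hw3, hv₂, hv₁, hh]; group
  refine ⟨⟨h, h * u * h⁻¹, ⟨hu', (hu.conj h).1, (hu.conj h).2⟩, ?_⟩, ?_⟩
  · calc h * (u * v) * h⁻¹ = (h * u * h⁻¹) * (h * v * h⁻¹) := by group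
      _ = _ := by rw [hv']
  · by_contra heven
    rw [Nat.not_odd_iff_even, even_iff_two_dvd] at heven
    haveI : Fact (Nat.Prime 2) := ⟨Nat.prime_two⟩
    set x := u * v with hxdef
    obtain ⟨z, hz⟩ := exists_prime_orderOf_dvd_card' 2 heven
    have hzi : IsInv (z : G) := by
      refine ⟨fun e => ?_, ?_⟩
      · rw [← Subgroup.orderOf_coe, e, orderOf_one] at hz; omega
      · have h' := pow_orderOf_eq_one (z : G)
        rw [Subgroup.orderOf_coe, hz, pow_two] at h'
        exact h'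
    have hzx : (z : G) * x = x * z := Subgroup.mem_centralizer_singleton_iff.1 z.2
    obtain ⟨p, hp⟩ := exists_fixed hS hzi
    have hxp : x • p = p := comm_fix hS hzi hp hzx
    have hinvu : ∀ r : Ω, x • r = r → x • u • r = u • r := by
      intro r hr
      have e : x * u = u * x⁻¹ := by
        rw [hxdef, mul_inv_rev, inv_eq_self hu.2, inv_eq_self hv.2]; group
      rw [← mul_smul, e, mul_smul, inv_smul_eq_iff.2 hr.symm]
    have hupne : u • p ≠ p := by
      intro hup
      have : p = c := fixed_unique hS hu hup hc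
      subst this
      rw [mul_smul] at hxp
      exact hvc (by
        have := congrArg (u • ·) hxp
        simpa [hu.smul_smul, hc] using this)
    have hzup : (z : G) • u • p ≠ u • p := fun e => hupne (fixed_unique hS hzi e hp)
    have hzne : (z : G) • u • p ≠ p := by
      intro e
      exact hupne (smul_left_cancel (z : G) (e.trans hp.symm))
    have hxzup : x • (z : G) • u • p = (z : G) • u • p := by
      rw [← mul_smul, ← hzx, mul_smul, hinvu p hxp]
    -- conjugate the pair `(p, u p)` to `(a, t a)`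
    obtain ⟨k, hk1, hk2⟩ := exists_smul_pair hS hupne.symm (ta_ne hS).symm
    set x' := k * x * k⁻¹ with hx'
    set u' := k * u * k⁻¹ with hu''
    have hfix : ∀ r : Ω, x • r = r → x' • k • r = k • r := fun r hr => by
      rw [hx', mul_smul, inv_smul_smul, mul_smul, hr]
    have hu'a : u' • a = t • a := by
      rw [hu'', mul_smul, mul_smul, inv_smul_eq_iff.2 hk1.symm, hk2]
    obtain ⟨w', -, hw'1, hw'2, hw'3⟩ := swap_conj hS (hu.conj k) (t_isInv hS) (p := a)
      (by rw [← hu'', hu'a]; exact ta_ne hS) (by rw [← hu'', hu'a])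
    rw [← hu'', hu'a] at hw'2
    rw [← hu''] at hw'3
    set X := w' * x' * w'⁻¹ with hX
    have hXfix : ∀ r : Ω, x • r = r → X • w' • k • r = w' • k • r := fun r hr => by
      rw [hX, mul_smul, inv_smul_smul, mul_smul, hfix r hr]
    have hXK : X ∈ Cfsg.invertedBy (twoStab G a t) t := by
      refine ⟨Subgroup.mem_inf.2 ⟨?_, ?_⟩, ?_⟩
      · have := hXfix p hxp
        rw [hk1, hw'1] at this
        exact this
      · have := hXfix (u • p) (hinvu p hxp)
        rw [hk2, hw'2] at this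
        exact this
      · rw [← hw'3, hX, hu'', hx', hxdef]
        simp only [mul_inv_rev, inv_inv, inv_eq_self hu.2, inv_eq_self hv.2]
        calc _ = w' * k * (u * u * v * u) * k⁻¹ * w'⁻¹ := by group
          _ = _ := by rw [hu.2, one_mul]; group
    have hb1 : w' • k • (z : G) • u • p ≠ a := by
      rw [← hw'1, ← hk1]
      exact fun e => hzne (smul_left_cancel k (smul_left_cancel w' e))
    have hb2 : w' • k • (z : G) • u • p ≠ t • a := by
      rw [← hw'2, ← hk2]
      exact fun e => hzup (smul_left_cancel k (smul_left_cancel w' e))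
    have hX1 := inverted_eq_one_of_fix hS hXK hb1 hb2 (hXfix _ hxzup)
    apply hx
    have : x = 1 := by
      calc x = k⁻¹ * w'⁻¹ * X * w' * k := by rw [hX, hx']; group
        _ = 1 := by rw [hX1]; group
    rw [this, one_mul]

end

end Cfsg.Agent.RankOne
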