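import Cfsg.Prelude.Def_LieExceptional
import Cfsg.Agent.Lib.RankOne.AbelianExponent

/-!
Zassenhaus groups whose point stabiliser has a regular normal 2-subgroup, as rank one set-ups,
and the structure equation in the abelian case.
-/

set_option autoImplicit false

namespace Cfsg.Agent.RankOne

open MulAction

variable {G Ω : Type*} [Group G] [Finite G] [MulAction G Ω] {a : Ω} {U : Subgroup G}

/-- A Zassenhaus group with a regular normal 2-subgroup `U` of `G_a` is a rank one set-up. -/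
theorem setup_of_zassenhaus (hZ : Cfsg.IsZassenhausGroup G Ω)
    (hUle : U ≤ stabilizer G a) (hUn : ∀ h ∈ stabilizer G a, ∀ u ∈ U, h * u * h⁻¹ ∈ U)
    (hreg : ∀ c d : Ω, c ≠ a → d ≠ a → ∃! u : U, (u : G) • c = d) (hU2 : IsPGroup 2 U)
    {v : G} (hv1 : v ≠ 1) (hv2 : v * v = 1) (hva : v • a ≠ a) :
    Cfsg.IsRankOneSetup G Ω a v U ∧
      (∀ d ∈ twoStab G a v, ∀ x ∈ U, d * x = x * d → x ≠ 1 → d = 1) ∧
      (∀ d ∈ twoStab G a v, ∀ c : Ω, c ≠ a → c ≠ v • a → d • c = c → d = 1) ∧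
      twoStab G a v ≠ ⊥ := by
  obtain ⟨hf, h2, h3, ⟨g, hg1, p, q, hpq, hgp, hgq⟩, -⟩ := hZ
  have hfix3 : ∀ d ∈ twoStab G a v, ∀ c : Ω, c ≠ a → c ≠ v • a → d • c = c → d = 1 :=
    fun d hd c hca hcb hdc => h3 d a (v • a) c hva.symm hcb.symm hca.symm
      (Subgroup.mem_inf.1 hd).1 (Subgroup.mem_inf.1 hd).2 hdc
  have hbot : U ⊓ stabilizer G (v • a) = ⊥ := by
    rw [Subgroup.eq_bot_iff_forall]
    intro x hx
    obtain ⟨hxU, hxb⟩ := Subgroup.mem_inf.1 hx
    have := (hreg (v • a) (v • a) hva hva).unique (y₁ := ⟨x, hxU⟩) (y₂ := 1) hxb (one_smul _ _)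
    exact congrArg Subtype.val this
  have hfree : ∀ d ∈ twoStab G a v, ∀ x ∈ U, d * x = x * d → x ≠ 1 → d = 1 := by
    intro d hd x hx hc hx1
    refine hfix3 d hd (x • v • a) ?_ ?_ ?_
    · intro h
      exact hva (smul_left_cancel x (h.trans (hUle hx).symm))
    · intro h
      exact hx1 (Subgroup.mem_bot.1 (hbot ▸ Subgroup.mem_inf.2 ⟨hx, h⟩))
    · rw [← mul_smul, hc, mul_smul, (Subgroup.mem_inf.1 hd).2]
  have hnt : twoStab G a v ≠ ⊥ := by
    intro h
    obtain ⟨w, hw1, hw2⟩ := is_two_pretransitive_iff.1 h2 hpq hva.symm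
    have hm : w * g * w⁻¹ ∈ twoStab G a v := by
      refine Subgroup.mem_inf.2 ⟨?_, ?_⟩ <;> rw [mem_stabilizer_iff, mul_smul, mul_smul]
      · rw [← hw1, inv_smul_smul, hgp]
      · rw [← hw2, inv_smul_smul, hgq]
    rw [h, Subgroup.mem_bot, mul_inv_eq_one] at hm
    exact hg1 (mul_left_cancel (hm.trans (mul_one w).symm))
  haveI : Nontrivial U := by
    by_contra hU
    rw [not_nontrivial_iff_subsingleton] at hU
    apply hnt
    rw [Subgroup.eq_bot_iff_forall]
    intro d hd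
    refine hf.eq_of_smul_eq_smul fun c => ?_
    rw [one_smul]
    by_cases hca : c = a
    · subst hca; exact (Subgroup.mem_inf.1 hd).1
    obtain ⟨u, hu, -⟩ := hreg (v • a) c hva hca
    rw [Subsingleton.elim u 1, OneMemClass.coe_one, one_smul] at hu
    subst hu
    exact (Subgroup.mem_inf.1 hd).2
  haveI : Fact (Nat.Prime 2) := ⟨Nat.prime_two⟩
  have heven : Even (Nat.card U) := by
    obtain ⟨m, hm, hm'⟩ := hU2.nontrivial_iff_card.1 inferInstance
    rw [hm']
    exact (Nat.even_pow' hm.ne').2 even_two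
  have hodd : Odd (Nat.card (twoStab G a v)) := by
    by_contra hev
    rw [Nat.not_odd_iff_even, even_iff_two_dvd] at hev
    obtain ⟨d, hd⟩ := exists_prime_orderOf_dvd_card' 2 hev
    have hd1 : d ≠ 1 := fun h => by rw [h, orderOf_one] at hd; omega
    have hdd : d ^ 2 = 1 := hd ▸ pow_orderOf_eq_one d
    letI : MulAction (Subgroup.zpowers d) U :=
      { smul := fun e x => ⟨((e : twoStab G a v) : G) * x * ((e : twoStab G a v) : G)⁻¹,
          hUn _ (Subgroup.mem_inf.1 (e : twoStab G a v).2).1 x x.2⟩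
        one_smul := fun x => Subtype.ext (by
          show ((1 : twoStab G a v) : G) * x * ((1 : twoStab G a v) : G)⁻¹ = x
          simp)
        mul_smul := fun e f x => Subtype.ext (by
          show (((e : twoStab G a v) * f : twoStab G a v) : G) * x *
              (((e : twoStab G a v) * f : twoStab G a v) : G)⁻¹ = _
          rw [Subgroup.coe_mul, mul_inv_rev]
          show _ = ((e : twoStab G a v) : G) * (((f : twoStab G a v) : G) * x *
            ((f : twoStab G a v) : G)⁻¹) * ((e : twoStab G a v) : G)⁻¹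
          group) }
    have hp : IsPGroup 2 (Subgroup.zpowers d) := IsPGroup.of_card (n := 1) (by
      rw [Nat.card_zpowers, hd, pow_one])
    have hone : (1 : U) ∈ fixedPoints (Subgroup.zpowers d) U := fun e => Subtype.ext (by
      show ((e : twoStab G a v) : G) * 1 * ((e : twoStab G a v) : G)⁻¹ = 1
      simp)
    obtain ⟨x, hx, hx1⟩ := hp.exists_fixed_point_of_prime_dvd_card_of_fixed_point
      (α := U) (even_iff_two_dvd.1 heven) hone
    have h1 : (d : G) * x * (d : G)⁻¹ = x :=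
      congrArg Subtype.val (hx ⟨d, Subgroup.mem_zpowers d⟩)
    exact hd1 (Subtype.ext (hfree d d.2 x x.2 (mul_inv_eq_iff_eq_mul.1 h1)
      (fun h => hx1 (Subtype.ext h.symm))))
  refine ⟨⟨h2, hv2, hv1, hva, hUle, hUn, hbot, ?_, heven, hodd⟩, hfree, hfix3, hnt⟩
  refine le_antisymm (sup_le hUle inf_le_left) fun g hg => ?_
  have hgb : g • v • a ≠ a := fun h => hva (smul_left_cancel g (h.trans (hg : g • a = a).symm))
  obtain ⟨u, hu, -⟩ := hreg (v • a) (g • v • a) hva hgb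
  rw [show g = (u : G) * ((u : G)⁻¹ * g) by group]
  refine Subgroup.mul_mem_sup u.2 (Subgroup.mem_inf.2 ⟨mul_mem (inv_mem (hUle u.2)) hg, ?_⟩)
  rw [mem_stabilizer_iff, mul_smul, inv_smul_eq_iff, hu]

variable {t : G} {Q : Subgroup G}

/-- The abelian Zassenhaus case from the absence of elements fixing three points. -/
theorem abelianCase_of_zassenhaus (hS : Cfsg.IsRankOneSetup G Ω a t Q)
    (hcomm : ∀ x ∈ Q, ∀ y ∈ Q, x * y = y * x)
    (hfree : ∀ d ∈ twoStab G a t, ∀ x ∈ Q, d * x = x * d → x ≠ 1 → d = 1)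
    (hfix3 : ∀ d ∈ twoStab G a t, ∀ c : Ω, c ≠ a → c ≠ t • a → d • c = c → d = 1)
    (hnt : twoStab G a t ≠ ⊥) (h2 : IsPGroup 2 Q) : IsAbelianCase G Ω a t Q := by
  refine ⟨hS, hcomm, hfree, fun d hd => ?_, hnt, h2⟩
  obtain ⟨c, i, hc, hct, -, hit, rfl, -⟩ :=
    odd_decomp hS.mul_self hS.odd_card (fun y hy => conj_t_twoStab hS hy) hd
  obtain ⟨p, hp⟩ := exists_fixed hS (t_isInv hS)
  rw [hfix3 c hc p (t_fix_ne_a hS hp) (t_fix_ne_ta hS hp) (comm_fix hS (t_isInv hS) hp hct), one_mul]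
  exact hit

/-- In the abelian case `r = s` in the structure equation. -/
theorem IsAbelianCase.r_eq_s (H : IsAbelianCase G Ω a t Q) {s r : G}
    (hs : s ∈ Cfsg.involutionsIn (stabilizer G a : Set G)) (hr : r ∈ Q)
    (h : t * s * t = r⁻¹ * t * r) : r = s := by
  haveI := Fintype.ofFinite G
  have hS := H.setup
  have hsQ : s ∈ Q := invol_mem_Q hS ⟨hs.2.1, hs.2.2⟩ hs.1
  have hr2 : r * r = 1 := exponent_two H r hr
  have hri : r⁻¹ = r := inv_eq_self hr2
  have hr1 : r ≠ 1 := by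
    rintro rfl
    rw [inv_one, one_mul, mul_one] at h
    have : s = t := by
      calc s = (t * t) * s * (t * t) := by rw [hS.mul_self]; group
        _ = t * (t * s * t) * t := by group
        _ = t := by rw [h, hS.mul_self, one_mul]
    subst this
    exact hS.not_mem hs.1
  obtain ⟨m, hm, hms⟩ :=
    twoStab_transitive hS ⟨hs.2.1, hs.2.2⟩ hs.1 ⟨hr1, hr2⟩ (Q_fix_a hS hr)
  obtain ⟨c, hc, hc1⟩ : ∃ c ∈ twoStab G a t, c ≠ 1 := by
    by_contra hcon
    push Not at hcon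
    exact H.nontriv ((Subgroup.eq_bot_iff_forall _).2 hcon)
  have conjQm : ∀ d ∈ twoStab G a t, ∀ x ∈ Q, d * x * d⁻¹ ∈ Q := fun d hd x hx =>
    hS.conj_mem d (Subgroup.mem_inf.1 hd).1 x hx
  have conjQm' : ∀ d ∈ twoStab G a t, ∀ x ∈ Q, d⁻¹ * x * d ∈ Q := fun d hd x hx => by
    simpa using conjQm d⁻¹ (inv_mem hd) x hx
  have etct : ∀ d ∈ twoStab G a t, t * d * t = d⁻¹ := fun d hd => by
    have := H.inverted d hd; rwa [t_inv hS] at this
  have one_D : (1 : G) ∈ twoStab G a t := one_mem _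
  -- the equation for `s`
  have es : t * s * t = r * 1 * t * r := by rw [h, hri, mul_one]
  -- the equation for conjugates of `s`
  have econj : ∀ d ∈ twoStab G a t,
      t * (d⁻¹ * s * d) * t = (d * r * d⁻¹) * (d * d) * t * (d * r * d⁻¹) := by
    intro d hd
    have hi : t * d⁻¹ * t = d := by rw [etct _ (inv_mem hd), inv_inv]
    calc t * (d⁻¹ * s * d) * t = (t * d⁻¹ * t) * (t⁻¹ * s * t⁻¹) * (t * d * t) := by group
      _ = d * (t * s * t) * d⁻¹ := by rw [hi, etct _ hd, t_inv hS]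
      _ = d * r * (d⁻¹ * d) * t * r * d⁻¹ := by rw [es]; group
      _ = (d * r * d⁻¹) * d * (t * r * d⁻¹) := by group
      _ = (d * r * d⁻¹) * d * ((t * d⁻¹ * t) * t * (d * r * d⁻¹)) := by
          congr 1
          calc t * r * d⁻¹ = t * d⁻¹ * (t * t) * (d * r * d⁻¹) := by rw [hS.mul_self]; group
            _ = _ := by group
      _ = _ := by rw [hi]; group
  set s1 := c⁻¹ * s * c with hs1
  have hs1Q : s1 ∈ Q := conjQm' c hc s hsQ
  have hne : s * s1 ≠ 1 := by
    intro he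
    have : s1 = s := by
      rw [mul_eq_one_iff_inv_eq, inv_eq_self hs.2.2] at he; exact he.symm
    refine hc1 (H.free c hc s hsQ ?_ hs.2.1)
    calc c * s = c * s1 := by rw [this]
      _ = _ := by rw [hs1]; group
  have hp : IsInv (s * s1) := ⟨hne, exponent_two H _ (mul_mem hsQ hs1Q)⟩
  obtain ⟨d₀, hd₀, he₀⟩ := twoStab_transitive hS ⟨hs.2.1, hs.2.2⟩ hs.1 hp
    (Q_fix_a hS (mul_mem hsQ hs1Q))
  set e := d₀⁻¹ with he
  have heD : e ∈ twoStab G a t := inv_mem hd₀
  have hee : e⁻¹ * s * e = s * s1 := by rw [he, inv_inv]; exact he₀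
  have hmi : r = m * s * m⁻¹ := hms.symm
  set z := r * (c * r * c⁻¹) with hz
  set e2 := e * c⁻¹ * m⁻¹ with he2
  have he2D : e2 ∈ twoStab G a t := mul_mem (mul_mem heD (inv_mem hc)) (inv_mem hm)
  have hcm := twoStab_comm H hc hm
  have hz' : z = e2⁻¹ * s * e2 := by
    rw [he2, hz, hmi]
    calc m * s * m⁻¹ * (c * (m * s * m⁻¹) * c⁻¹) = m * s * m⁻¹ * ((c * m) * s * (c * m)⁻¹) := by
          group
      _ = m * (s * (c * s * c⁻¹)) * m⁻¹ := by rw [hcm]; group
      _ = m * (c * ((c⁻¹ * s * c) * s) * c⁻¹) * m⁻¹ := by group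
      _ = m * (c * (e⁻¹ * s * e) * c⁻¹) * m⁻¹ := by rw [hee, H.comm _ hs1Q s hsQ]
      _ = _ := by group
  have ez : t * (r * (c * r * c⁻¹)) * t =
      (e2 * r * e2⁻¹) * (e2 * e2) * t * (e2 * r * e2⁻¹) := by
    rw [← hz, hz']; exact econj e2 he2D
  have exy : t * (s * s1) * t = (e * r * e⁻¹) * (e * e) * t * (e * r * e⁻¹) := by
    rw [← hee]; exact econj e heD
  have key := (mult_mul hS hr one_D es (mul_mem hc hc) (conjQm c hc r hr)
    (econj c hc) (conjQm e2 he2D r hr) (mul_mem he2D he2D) (conjQm e2 he2D r hr) ez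
    (conjQm e heD r hr) (mul_mem heD heD) (conjQm e heD r hr) exy).2.2
  have hec := twoStab_comm H heD hc
  have hem := twoStab_comm H heD hm
  have hmm : m * m = 1 := by
    have cec : Commute e c := hec
    have cem : Commute e m := hem
    have ccm : Commute c m := hcm
    have h5 : e2 * e2 = (e * e) * (c * c)⁻¹ * (m * m)⁻¹ := by
      rw [he2, mul_inv_rev, mul_inv_rev]
      have a1 : Commute m⁻¹ (e * c⁻¹) :=
        (cem.symm.inv_left).mul_right (ccm.symm.inv_left.inv_right)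
      have a2 : Commute c⁻¹ e := cec.symm.inv_left
      calc e * c⁻¹ * m⁻¹ * (e * c⁻¹ * m⁻¹) = e * c⁻¹ * (m⁻¹ * (e * c⁻¹)) * m⁻¹ := by group
        _ = e * (c⁻¹ * e) * c⁻¹ * m⁻¹ * m⁻¹ := by rw [a1.eq]; group
        _ = _ := by rw [a2.eq]; group
    have h6 : (m * m)⁻¹ * (c * c) = (c * c) * (m * m)⁻¹ :=
      (((ccm.mul_left ccm).mul_right (ccm.mul_left ccm)).inv_right).symm.eq
    rw [one_mul, h5] at key
    have h7 : e * e = e * e * (m * m)⁻¹ := by
      calc e * e = e * e * (c * c)⁻¹ * (m * m)⁻¹ * (c * c) := key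
        _ = e * e * (c * c)⁻¹ * ((m * m)⁻¹ * (c * c)) := by group
        _ = _ := by rw [h6]; group
    exact inv_eq_one.1 (mul_left_cancel (h7.symm.trans (mul_one _).symm))
  rw [eq_one_of_mul_self (odd_orderOf_of_mem hS.odd_card hm) hmm] at hmi
  rw [hmi]; group

end Cfsg.Agent.RankOne
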